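import Groth.Agent.L05.Nd.Jet

/-! The radical of the Hessian read off from the tangency equations. -/

set_option autoImplicit false
set_option linter.style.haveILetI false
set_option backward.isDefEq.respectTransparency false
set_option backward.isDefEq.respectTransparency.types false
set_option maxHeartbeats 1000000

universe u

open CategoryTheory CategoryTheory.Limits AlgebraicGeometry TopologicalSpace MvPolynomial IsLocalRing

noncomputable section

namespace Groth.L05.Nd

open Groth.L05.OrdQuad (σ exists_coords)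
open Groth.L05.DualVar
open VanCyc (quadPart QuadOrd polarMatrix quadEval)

variable {k : Type u} [Field k] [IsAlgClosed k] {r : ℕ} {X : Scheme.{u}} {i : X ⟶ CohB1.ProjSpace r k}
  [IsClosedImmersion i] [IrreducibleSpace X] [IsReduced X] [IsLocallyNoetherian X]
  {S : Finset (MvPolynomial (Fin (r + 1)) k)} {m n d : ℕ}
  [SmoothOfRelativeDimension n (i ≫ CohB1.ProjSpace.toSpec r k)] (hE : Eqns i S m n)

/-- Tangent vectors killed by the differentials of all tangency equations. -/
def Rad (S : Finset (MvPolynomial (Fin (r + 1)) k)) (m : ℕ) (a : Fin (r + 1)) (c : Fin (r + 1) → k)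
    (H : LefPen.Form r k d) (w : Fin (r + 1) → k) : Prop :=
  w a = 0 ∧ (∀ F ∈ S, ∑ j, grad c F j * w j = 0) ∧ ∀ l, ∑ j, grad c (linEq S m l H.1) j * w j = 0

omit [IsAlgClosed k] [IsClosedImmersion i] [IrreducibleSpace X] [IsReduced X] [IsLocallyNoetherian X] in
theorem eval_minor_vec {c : Fin (r + 1) → k} (g : Fin m → MvPolynomial (Fin (r + 1)) k)
    (col : Fin (m + 1) → Fin (r + 1)) {G : MvPolynomial (Fin (r + 1)) k} (hG : grad c G = 0) (w : Fin (r + 1) → k) :
    ∑ j, grad c (minor g col G) j * w j = eval c (minor g col (∑ j, C (hessVec c w G j) * MvPolynomial.X j)) := by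
  classical
  have hL : ∀ p, eval c (pderiv p (∑ j, C (hessVec c w G j) * MvPolynomial.X j)) = hessVec c w G p := fun p => by
    simp only [map_sum, pderiv_C_mul, map_mul, eval_C]
    rw [Fintype.sum_eq_single p (fun j hj => by rw [pderiv_X_of_ne hj, map_zero, mul_zero]), pderiv_X_self, map_one,
      mul_one]
  have hp : ∀ p, ∑ j, grad c (pderiv p G) j * w j = hessVec c w G p := fun p => by
    have h := hessVec_symm c (Pi.single p 1) w G
    rw [Fintype.sum_eq_single p (f := fun j => (Pi.single p (1 : k) : Fin (r + 1) → k) j * hessVec c w G j)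
      (fun j hj => by rw [Pi.single_eq_of_ne hj, zero_mul]), Pi.single_eq_same, one_mul] at h
    rw [← h]
    refine Finset.sum_congr rfl fun j _ => ?_
    rw [hessVec_single, mul_comm]
  rw [minor_apply, minor_apply, map_sum, map_sum]
  simp only [Finset.sum_apply, Finset.sum_mul]
  rw [Finset.sum_comm]
  refine Finset.sum_congr rfl fun l _ => ?_
  rw [grad_mul, show eval c (pderiv (col l) G) = 0 by rw [← grad_apply, hG]; rfl, zero_smul, add_zero,
    map_mul (eval c) (pderiv (col l) _), hL, ← hp, Finset.sum_mul]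
  refine Finset.sum_congr rfl fun j _ => ?_
  rw [Pi.smul_apply, smul_eq_mul]
  ring

include hE in
/-- A minor of the equations vanishes on `X`. -/
theorem grad_minor_mem_jetKer {a : Fin (r + 1)} {x : X} {hxa : i x ∈ LefPen.chart r k a} {c : Fin (r + 1) → k}
    (hc : IsCoord i a x hxa c) (g : Fin m → MvPolynomial (Fin (r + 1)) k) (hg : ∀ s, g s ∈ S)
    (col : Fin (m + 1) → Fin (r + 1)) {F : MvPolynomial (Fin (r + 1)) k} (hF : F ∈ S) :
    grad c (minor g col F) ∈ jetKer i a x hxa c := by
  haveI : JacobsonSpace X := LocallyOfFiniteType.jacobsonSpace (i ≫ CohB1.ProjSpace.toSpec r k)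
  set s : Γ(X, i ⁻¹ᵁ LefPen.chart r k a) :=
    (i.app (LefPen.chart r k a)).hom (Groth.L18.CIProj.deh a (minor g col F)) with hs
  have hs0 : s = 0 := by
    rw [← basicOpen_eq_bot_iff]
    by_contra hne
    obtain ⟨y, hy, hyc⟩ := nonempty_inter_closedPoints (X := X) (Z := (X.basicOpen s : Set X))
      ((TopologicalSpace.Opens.ne_bot_iff_nonempty _).1 hne) (X.basicOpen s).isOpen.isLocallyClosed
    have hya : i y ∈ LefPen.chart r k a := X.basicOpen_le s hy
    obtain ⟨cy, hcy'⟩ := exists_coords i a y hya hyc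
    have hcy : IsCoord i a y hya cy := hcy'
    have h0 : eval cy (minor g col F) = 0 :=
      (mem_span_iff_minors _ cy (finrank_span hE hcy hyc) F).1 (Submodule.subset_span ⟨F, hF, rfl⟩) g hg col
    exact (mem_nonunits_iff.1 ((mem_maximalIdeal _).1 ((σ_mem_iff hcy _).2 h0))) ((X.mem_basicOpen s y hya).1 hy)
  refine ((σ_mem_sq_iff hc (minor g col F)).1 ?_).2
  rw [show σ i a x hxa (minor g col F) = (X.presheaf.germ _ x hxa).hom s from rfl, hs0, map_zero]
  exact zero_mem _

variable {a : Fin (r + 1)} {x : X} {hxa : i x ∈ LefPen.chart r k a} {c : Fin (r + 1) → k}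
  (hc : IsCoord i a x hxa c) (hx : IsClosed ({x} : Set X))

include hE in
omit [IsAlgClosed k] [SmoothOfRelativeDimension n (i ≫ CohB1.ProjSpace.toSpec r k)] in
theorem tangent_iff (hc : IsCoord i a x hxa c) (w : Fin (r + 1) → k) :
    (∀ u ∈ jetKer i a x hxa c, ∑ j, u j * w j = 0) ↔ w a = 0 ∧ ∀ F ∈ S, ∑ j, grad c F j * w j = 0 := by
  classical
  rw [jetKer_eq hc hE.sub hE.gen]
  constructor
  · intro h
    refine ⟨?_, fun F hF => h _ (Submodule.mem_sup_right (Submodule.subset_span ⟨F, hF, rfl⟩))⟩
    have := h _ (Submodule.mem_sup_left (Submodule.mem_span_singleton_self _))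
    rwa [Fintype.sum_eq_single a (fun j hj => by rw [Pi.single_eq_of_ne hj, zero_mul]), Pi.single_eq_same, one_mul]
      at this
  · rintro ⟨ha, hS⟩ u hu
    obtain ⟨p, hp, q, hq, rfl⟩ := Submodule.mem_sup.1 hu
    obtain ⟨t, rfl⟩ := Submodule.mem_span_singleton.1 hp
    rw [show ∑ j, ((t • (Pi.single a 1 : Fin (r + 1) → k)) + q) j * w j = ∑ j, q j * w j by
      refine Finset.sum_congr rfl fun j _ => ?_
      by_cases h : j = a
      · subst h; simp [ha]
      · simp [Pi.single_eq_of_ne h]]
    clear hu hp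
    induction hq using Submodule.span_induction with
    | mem v hv => obtain ⟨F, hF, rfl⟩ := hv; exact hS F hF
    | zero => simp
    | add v v' hv hv' h h' => simp [add_mul, Finset.sum_add_distrib, h, h']
    | smul s v hv h =>
      simp only [Pi.smul_apply, smul_eq_mul, mul_assoc, ← Finset.mul_sum]
      rw [h, mul_zero]

include hE hc hx in
/-- A family of equations with independent differentials at a point. -/
theorem exists_frame : ∃ g : Fin m → MvPolynomial (Fin (r + 1)) k, (∀ s, g s ∈ S) ∧
    LinearIndependent k (fun s => grad c (g s)) ∧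
    Submodule.span k (Set.range fun s => grad c (g s)) = Submodule.span k (grad c '' (S : Set (MvPolynomial (Fin (r + 1)) k))) := by
  obtain ⟨f, hf, hspan, hli⟩ := Submodule.exists_fun_fin_finrank_span_eq k (grad c '' (S : Set (MvPolynomial (Fin (r + 1)) k)))
  have hrk := finrank_span hE hc hx
  choose g hg using fun s => hf (Fin.cast hrk.symm s)
  have he : (fun s => grad c (g s)) = f ∘ Fin.cast hrk.symm := funext fun s => (hg s).2
  refine ⟨g, fun s => (hg s).1, he ▸ hli.comp _ (Fin.cast_injective _), ?_⟩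
  rw [he, Set.range_comp, (show Set.range (Fin.cast hrk.symm) = Set.univ from Set.range_eq_univ.2 (finCongr hrk.symm).surjective), Set.image_univ, hspan]

include hE hc hx in
/-- A polynomial with the germ of a tangent form and no first order terms. -/
theorem exists_flat {H : LefPen.Form r k d} (hH : σ i a x hxa H.1 ∈ maximalIdeal (X.presheaf.stalk x) ^ 2)
    (g : Fin m → MvPolynomial (Fin (r + 1)) k) (hg : ∀ s, g s ∈ S)
    (hspan : Submodule.span k (Set.range fun s => grad c (g s)) = Submodule.span k (grad c '' (S : Set (MvPolynomial (Fin (r + 1)) k)))) :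
    ∃ l : Fin m → k, grad c H.1 = ∑ s, l s • grad c (g s) ∧ grad c (H.1 - ∑ s, C (l s) * g s) = 0 ∧
      eval c (H.1 - ∑ s, C (l s) * g s) = 0 ∧ σ i a x hxa (H.1 - ∑ s, C (l s) * g s) = σ i a x hxa H.1 := by
  have h := (σ_form_mem_sq_iff hc hE.sub hE.gen H).1 hH
  obtain ⟨l, hl⟩ := (Submodule.mem_span_range_iff_exists_fun k).1 (hspan.ge h.2)
  refine ⟨l, hl.symm, ?_, ?_, ?_⟩
  · rw [map_sub, map_sum, sub_eq_zero, ← hl]
    refine Finset.sum_congr rfl fun s _ => ?_
    rw [← smul_eq_C_mul, map_smul]
  · rw [map_sub, map_sum, h.1, zero_sub, neg_eq_zero]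
    exact Finset.sum_eq_zero fun s _ => by rw [map_mul, eval_eq_zero_of_mem hc hE.sub (hg s), mul_zero]
  · rw [map_sub, map_sum, Finset.sum_eq_zero, sub_zero]
    exact fun s _ => by rw [map_mul, σ_eq_zero_of_van (hE.sub (hg s)) a x hxa, mul_zero]

include hE hc hx in
theorem rad_iff {H : LefPen.Form r k d} {g : Fin m → MvPolynomial (Fin (r + 1)) k} (hg : ∀ s, g s ∈ S)
    (hli : LinearIndependent k (fun s => grad c (g s)))
    (hspan : Submodule.span k (Set.range fun s => grad c (g s)) = Submodule.span k (grad c '' (S : Set (MvPolynomial (Fin (r + 1)) k))))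
    {l : Fin m → k} (hl : grad c H.1 = ∑ s, l s • grad c (g s)) (hG : grad c (H.1 - ∑ s, C (l s) * g s) = 0)
    (w : Fin (r + 1) → k) :
    Rad S m a c H w ↔ (∀ u ∈ jetKer i a x hxa c, ∑ j, u j * w j = 0) ∧
      hessVec c w (H.1 - ∑ s, C (l s) * g s) ∈ jetKer i a x hxa c := by
  classical
  set G := H.1 - ∑ s, C (l s) * g s
  set v := hessVec c w G
  set W := Submodule.span k (Set.range fun s => grad c (g s))
  have hW : Module.finrank k ↥W = m := by rw [finrank_span_eq_card hli, Fintype.card_fin]
  have hWimg : Submodule.span k (grad c '' Set.range g) = W := by rw [← Set.range_comp]; rfl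
  have hvL : grad c (∑ j, C (v j) * MvPolynomial.X j) = v := by
    funext p
    simp only [grad_apply, map_sum, pderiv_C_mul, map_mul, eval_C]
    rw [Fintype.sum_eq_single p (fun j hj => by rw [pderiv_X_of_ne hj, map_zero, mul_zero]), pderiv_X_self, map_one,
      mul_one]
  constructor
  · rintro ⟨ha, hS, hlin⟩
    have hw := (tangent_iff hE hc w).2 ⟨ha, hS⟩
    refine ⟨hw, ?_⟩
    rw [jetKer_eq hc hE.sub hE.gen, ← hspan]
    refine Submodule.mem_sup_right (hvL ▸ hWimg.le ?_)
    rw [mem_span_iff_minors _ c (by rw [hWimg, hW])]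
    intro g' hg' col
    rw [← eval_minor_vec g' col hG w]
    have hmin : minor g' col G = minor g' col H.1 - ∑ s, C (l s) * minor g' col (g s) := by
      rw [map_sub, map_sum]
      congr 1
      exact Finset.sum_congr rfl fun s _ => by rw [← smul_eq_C_mul, map_smul, smul_eq_C_mul]
    have hg'S : ∀ t, g' t ∈ S := fun t => by obtain ⟨s, hs⟩ := hg' t; exact hs ▸ hg s
    have h1 : ∀ s, ∑ j, grad c (C (l s) * minor g' col (g s)) j * w j = 0 := fun s => by
      rw [← smul_eq_C_mul, map_smul]
      exact hw _ (Submodule.smul_mem _ _ (grad_minor_mem_jetKer hE hc g' hg'S col (hg s)))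
    rw [hmin, map_sub, map_sum]
    simp only [Pi.sub_apply, Finset.sum_apply, sub_mul, Finset.sum_sub_distrib, Finset.sum_mul]
    rw [show ∑ j, grad c (minor g' col H.1) j * w j = 0 from hlin (Sum.inr (fun t => ⟨g' t, hg'S t⟩, col)),
      Finset.sum_comm, Finset.sum_eq_zero (fun s _ => h1 s), sub_zero]
  · rintro ⟨hw, hv⟩
    obtain ⟨ha, hS⟩ := (tangent_iff hE hc w).1 hw
    refine ⟨ha, hS, ?_⟩
    have hgradH : ∑ j, grad c H.1 j * w j = 0 := by
      rw [hl]
      simp only [Finset.sum_apply, Pi.smul_apply, smul_eq_mul, Finset.sum_mul]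
      rw [Finset.sum_comm]
      refine Finset.sum_eq_zero fun s _ => ?_
      simp only [mul_assoc, ← Finset.mul_sum, hS _ (hg s), mul_zero]
    have hdot : ∀ {F : MvPolynomial (Fin (r + 1)) k} {e : ℕ}, F.IsHomogeneous e → (∑ j, grad c F j * w j = 0) →
        ∑ j, c j * hessVec c w F j = 0 := fun hF h => by
      rw [sum_mul_hessVec hF, show ∑ l, w l * grad c _ l = 0 from
        (Finset.sum_congr rfl fun j _ => mul_comm _ _).trans h, mul_zero]
    have hcv : ∑ j, c j * v j = 0 := by
      have hGsum : v = hessVec c w H.1 - ∑ s, l s • hessVec c w (g s) := by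
        simp only [v, G, map_sub, map_sum, ← smul_eq_C_mul, map_smul]
      rw [hGsum]
      simp only [Pi.sub_apply, Finset.sum_apply, Pi.smul_apply, smul_eq_mul, mul_sub, Finset.sum_sub_distrib,
        Finset.mul_sum]
      rw [hdot ((mem_homogeneousSubmodule d _).1 H.2) hgradH, Finset.sum_comm, zero_sub, neg_eq_zero]
      refine Finset.sum_eq_zero fun s _ => ?_
      obtain ⟨e, he⟩ := (hE.sub (hg s)).1
      simp only [mul_left_comm (c _), ← Finset.mul_sum, hdot he (hS _ (hg s)), mul_zero]
    have hvW : v ∈ Submodule.span k (grad c '' (S : Set (MvPolynomial (Fin (r + 1)) k))) := by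
      rw [jetKer_eq hc hE.sub hE.gen] at hv
      obtain ⟨p, hp, q, hq, hpq⟩ := Submodule.mem_sup.1 hv
      obtain ⟨t, rfl⟩ := Submodule.mem_span_singleton.1 hp
      rw [← hpq] at hcv
      simp only [Pi.add_apply, mul_add, Finset.sum_add_distrib, dot_eq_zero hc hE.sub hq, add_zero] at hcv
      rw [Fintype.sum_eq_single a (fun j hj => by rw [Pi.smul_apply, Pi.single_eq_of_ne hj, smul_zero, mul_zero]),
        Pi.smul_apply, Pi.single_eq_same, coord_self hc, one_mul, smul_eq_mul, mul_one] at hcv
      rw [← hpq, hcv, zero_smul, zero_add]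
      exact hq
    rintro (_ | ⟨g', col⟩)
    · exact hgradH
    have hmin : minor (fun t => (g' t).1) col H.1 =
        minor (fun t => (g' t).1) col G + ∑ s, C (l s) * minor (fun t => (g' t).1) col (g s) := by
      conv_lhs => rw [show H.1 = G + ∑ s, C (l s) * g s from (sub_add_cancel _ _).symm]
      rw [map_add, map_sum]
      congr 1
      exact Finset.sum_congr rfl fun s _ => by rw [← smul_eq_C_mul, map_smul, smul_eq_C_mul]
    have h2 : ∑ j, grad c (minor (fun t => (g' t).1) col G) j * w j = 0 := by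
      rw [eval_minor_vec _ col hG w]
      exact (mem_span_iff_minors _ c (finrank_span hE hc hx) _).1 (hvL.symm ▸ hvW) _ (fun t => (g' t).2) col
    show ∑ j, grad c (minor (fun t => (g' t).1) col H.1) j * w j = 0
    rw [hmin, map_add, map_sum]
    simp only [Pi.add_apply, Finset.sum_apply, add_mul, Finset.sum_add_distrib, Finset.sum_mul, h2, zero_add]
    rw [Finset.sum_comm]
    refine Finset.sum_eq_zero fun s _ => ?_
    rw [← smul_eq_C_mul, map_smul]
    exact hw _ (Submodule.smul_mem _ _ (grad_minor_mem_jetKer hE hc _ (fun t => (g' t).2) col (hg s)))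

end Groth.L05.Nd
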