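import Groth.Agent.L05.Nd.Hess
import Groth.Agent.L05.HypBertini.Main
import Mathlib.LinearAlgebra.Matrix.Determinant.Basic

/-! Families of polynomials depending polynomially on a form. -/

set_option autoImplicit false
set_option linter.style.haveILetI false

universe u

open MvPolynomial

noncomputable section

namespace Groth.L05.Nd

open Groth.L14.Fano (Mon)

variable {k : Type u} [Field k] {r : ℕ} {V : Type u} [AddCommGroup V] [Module k V]

variable (k V) in
/-- The ring of polynomial functions. -/
abbrev PFun : Type u := ↥(Algebra.adjoin k (Set.range fun l : Module.Dual k V => (l : V → k)))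

/-- The member of a family at a parameter. -/
def spec (H : V) : MvPolynomial (Fin (r + 1)) (PFun k V) →+* MvPolynomial (Fin (r + 1)) k :=
  MvPolynomial.map ((Pi.evalRingHom (fun _ : V => k) H).comp
    (Algebra.adjoin k (Set.range fun l : Module.Dual k V => (l : V → k))).val.toRingHom)

theorem isPolyFun_coeff (p : MvPolynomial (Fin (r + 1)) (PFun k V)) (μ : Fin (r + 1) →₀ ℕ) :
    LefPen.IsPolyFun k fun H : V => coeff μ (spec H p) := by
  rw [show (fun H : V => coeff μ (spec H p)) = ((coeff μ p : PFun k V) : V → k) from funext fun H => by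
    rw [spec, coeff_map]; rfl]
  exact (coeff μ p).2

/-- A constant family. -/
def cst : MvPolynomial (Fin (r + 1)) k →+* MvPolynomial (Fin (r + 1)) (PFun k V) :=
  MvPolynomial.map (algebraMap k (PFun k V))

theorem spec_cst (H : V) (p : MvPolynomial (Fin (r + 1)) k) : spec H (cst p) = p := by
  rw [spec, cst, map_map]
  refine (congrArg (fun f : k →+* k => MvPolynomial.map f p) ?_).trans (MvPolynomial.map_id p)
  exact RingHom.ext fun c => rfl

variable {d : ℕ}

/-- The family of images of forms under a linear map. -/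
def fam (L : MvPolynomial (Fin (r + 1)) k →ₗ[k] MvPolynomial (Fin (r + 1)) k) :
    MvPolynomial (Fin (r + 1)) (PFun k (LefPen.Form r k d)) :=
  ∑ μ : Mon (r + 1) d, C ⟨_, Algebra.subset_adjoin
    ⟨(lcoeff k μ.1).comp (CohB1.polyGrading r k d).subtype, rfl⟩⟩ * cst (L (monomial μ.1 1))

theorem spec_fam (L : MvPolynomial (Fin (r + 1)) k →ₗ[k] MvPolynomial (Fin (r + 1)) k) (H : LefPen.Form r k d) :
    spec H (fam L) = L H.1 := by
  conv_rhs => rw [Groth.L05.HypBertini.form_eq_sum H, map_sum]
  rw [fam, map_sum]
  refine Finset.sum_congr rfl fun μ _ => ?_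
  rw [map_mul, spec_cst, show monomial μ.1 (coeff μ.1 H.1) = coeff μ.1 H.1 • monomial μ.1 (1 : k) by
    rw [smul_monomial, smul_eq_mul, mul_one], map_smul, smul_eq_C_mul]
  congr 1
  rw [spec, map_C]
  rfl

/-- Homogenisation with respect to one variable, uniformly in the parameter. -/
theorem exists_homogenise (a : Fin (r + 1)) (p : MvPolynomial (Fin (r + 1)) (PFun k V)) :
    ∃ (N : ℕ) (q : MvPolynomial (Fin (r + 1)) (PFun k V)), ∀ H : V, (spec H q).IsHomogeneous N ∧
      ∀ c : Fin (r + 1) → k, c a = 1 → eval c (spec H q) = eval c (spec H p) := by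
  classical
  let N := p.totalDegree
  refine ⟨N, ∑ μ ∈ p.support, monomial (μ + Finsupp.single a (N - μ.degree)) (coeff μ p), fun H => ⟨?_, fun c hc => ?_⟩⟩
  · rw [map_sum]
    refine IsHomogeneous.sum _ _ _ fun μ hμ => ?_
    rw [spec, map_monomial]
    refine isHomogeneous_monomial _ ?_
    have h : μ.degree ≤ N := by
      have := le_totalDegree hμ
      rwa [Finsupp.degree_apply]
    rw [map_add, Finsupp.degree_single]
    omega
  · conv_rhs => rw [p.as_sum, map_sum, map_sum]
    rw [map_sum, map_sum]
    refine Finset.sum_congr rfl fun μ _ => ?_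
    rw [spec, map_monomial, map_monomial, monomial_add_single, map_mul, map_pow, eval_X, hc, one_pow, mul_one]

theorem hq_smul (c w : Fin (r + 1) → k) (t : k) (G : MvPolynomial (Fin (r + 1)) k) :
    hq c (t • w) G = t ^ 2 * hq c w G := by
  induction G using MvPolynomial.induction_on with
  | C s => rw [hq_C, hq_C, mul_zero]
  | add p q hp hq' => rw [hq_add, hq_add, hp, hq']; ring
  | mul_X p l hp =>
    rw [hq_mul_X, hq_mul_X, hp]
    simp only [Pi.smul_apply, smul_eq_mul, mul_assoc, ← Finset.mul_sum]
    ring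

theorem hq_sub_sum (c w : Fin (r + 1) → k) {m : ℕ} (l : Fin m → k) (G : MvPolynomial (Fin (r + 1)) k)
    (g : Fin m → MvPolynomial (Fin (r + 1)) k) :
    hq c w (G - ∑ s, C (l s) * g s) = hq c w G - ∑ s, l s * hq c w (g s) := by
  let φ : MvPolynomial (Fin (r + 1)) k →+ k := AddMonoidHom.mk' (hq c w) (hq_add c w)
  show φ _ = φ G - _
  rw [map_sub, map_sum]
  exact congrArg _ (Finset.sum_congr rfl fun s _ => hq_C_mul c w (l s) (g s))

end Groth.L05.Nd
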