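import Groth.Agent.L05.DualVar.Local
import Mathlib.Algebra.Polynomial.AlgebraMap

/-! Second order jets of polynomials. -/

set_option autoImplicit false
set_option linter.style.haveILetI false

universe u

open MvPolynomial

noncomputable section

namespace Groth.L05.Nd

open Groth.L05.DualVar (grad grad_apply grad_mul)

variable {r : ℕ} {R : Type u} [CommRing R]

/-- `G(X + T W)` as a polynomial in `T`. -/
def shift (W : Fin (r + 1) → MvPolynomial (Fin (r + 1)) R) :
    MvPolynomial (Fin (r + 1)) R →ₐ[R] Polynomial (MvPolynomial (Fin (r + 1)) R) :=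
  aeval fun j => Polynomial.C (MvPolynomial.X j) + Polynomial.C (W j) * Polynomial.X

/-- The coefficient of `T²` in `G(X + T W)`. -/
def hqW (W : Fin (r + 1) → MvPolynomial (Fin (r + 1)) R) (G : MvPolynomial (Fin (r + 1)) R) :
    MvPolynomial (Fin (r + 1)) R :=
  (shift W G).coeff 2

theorem shift_coeff_zero (W : Fin (r + 1) → MvPolynomial (Fin (r + 1)) R) (G : MvPolynomial (Fin (r + 1)) R) :
    (shift W G).coeff 0 = G := by
  induction G using MvPolynomial.induction_on with
  | C t => simp [shift, Polynomial.algebraMap_apply, MvPolynomial.algebraMap_eq]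
  | add p q hp hq => rw [map_add, Polynomial.coeff_add, hp, hq]
  | mul_X p l hp =>
    rw [map_mul, show shift W (MvPolynomial.X l) = Polynomial.C (MvPolynomial.X l) + Polynomial.C (W l) * Polynomial.X
      from aeval_X _ _, mul_add, ← mul_assoc, Polynomial.coeff_add, Polynomial.coeff_mul_C, Polynomial.coeff_mul_X_zero,
      hp, add_zero]

theorem shift_coeff_one (W : Fin (r + 1) → MvPolynomial (Fin (r + 1)) R) (G : MvPolynomial (Fin (r + 1)) R) :
    (shift W G).coeff 1 = ∑ j, W j * pderiv j G := by
  classical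
  induction G using MvPolynomial.induction_on with
  | C t => simp [shift, Polynomial.algebraMap_apply, Polynomial.coeff_C]
  | add p q hp hq => rw [map_add, Polynomial.coeff_add, hp, hq, ← Finset.sum_add_distrib]; simp [mul_add]
  | mul_X p l hp =>
    rw [map_mul, show shift W (MvPolynomial.X l) = Polynomial.C (MvPolynomial.X l) + Polynomial.C (W l) * Polynomial.X
      from aeval_X _ _, mul_add, ← mul_assoc, Polynomial.coeff_add, Polynomial.coeff_mul_C, Polynomial.coeff_mul_X,
      Polynomial.coeff_mul_C, shift_coeff_zero, hp]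
    simp only [pderiv_mul, pderiv_X, mul_add, Finset.sum_add_distrib, ← mul_assoc, ← Finset.sum_mul]
    rw [show ∑ x, W x * p * (Pi.single x 1 : Fin (r + 1) → MvPolynomial (Fin (r + 1)) R) l = W l * p by
      rw [Fintype.sum_eq_single l (fun j hj => by rw [Pi.single_eq_of_ne (Ne.symm hj), mul_zero]), Pi.single_eq_same,
        mul_one]]
    ring

theorem hqW_mul_X (W : Fin (r + 1) → MvPolynomial (Fin (r + 1)) R) (G : MvPolynomial (Fin (r + 1)) R) (l : Fin (r + 1)) :
    hqW W (G * MvPolynomial.X l) = hqW W G * MvPolynomial.X l + (∑ j, W j * pderiv j G) * W l := by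
  rw [hqW, map_mul, show shift W (MvPolynomial.X l) = Polynomial.C (MvPolynomial.X l) + Polynomial.C (W l) * Polynomial.X
      from aeval_X _ _, mul_add, ← mul_assoc, Polynomial.coeff_add, Polynomial.coeff_mul_C, Polynomial.coeff_mul_X,
      Polynomial.coeff_mul_C, shift_coeff_one]
  rfl

theorem hqW_add (W : Fin (r + 1) → MvPolynomial (Fin (r + 1)) R) (p q : MvPolynomial (Fin (r + 1)) R) :
    hqW W (p + q) = hqW W p + hqW W q := by
  rw [hqW, map_add, Polynomial.coeff_add]
  rfl

theorem hqW_C (W : Fin (r + 1) → MvPolynomial (Fin (r + 1)) R) (t : R) : hqW W (C t) = 0 := by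
  simp [hqW, shift, Polynomial.algebraMap_apply, Polynomial.coeff_C]

theorem map_hqW {R' : Type u} [CommRing R'] (f : R →+* R') (W : Fin (r + 1) → MvPolynomial (Fin (r + 1)) R)
    (G : MvPolynomial (Fin (r + 1)) R) :
    MvPolynomial.map f (hqW W G) = hqW (fun j => MvPolynomial.map f (W j)) (MvPolynomial.map f G) := by
  induction G using MvPolynomial.induction_on with
  | C t => simp [hqW_C]
  | add p q hp hq => rw [hqW_add, map_add, map_add, hqW_add, hp, hq]
  | mul_X p l hp =>
    rw [hqW_mul_X, map_add, map_mul, map_mul, map_mul, map_sum, hp, map_X, hqW_mul_X]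
    simp [map_mul, pderiv_map]

variable {k : Type u} [Field k]

/-- The second Hasse derivative of `G` at `c` along `w`. -/
def hq (c w : Fin (r + 1) → k) (G : MvPolynomial (Fin (r + 1)) k) : k := eval c (hqW (fun j => C (w j)) G)

theorem hq_C (c w : Fin (r + 1) → k) (t : k) : hq c w (C t) = 0 := by rw [hq, hqW_C, map_zero]

theorem hq_add (c w : Fin (r + 1) → k) (p q : MvPolynomial (Fin (r + 1)) k) :
    hq c w (p + q) = hq c w p + hq c w q := by rw [hq, hqW_add, map_add]; rfl

theorem hq_C_mul (c w : Fin (r + 1) → k) (t : k) (G : MvPolynomial (Fin (r + 1)) k) :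
    hq c w (C t * G) = t * hq c w G := by
  simp [hq, hqW, shift, Polynomial.algebraMap_apply, Polynomial.coeff_C_mul]

theorem hq_mul_X (c w : Fin (r + 1) → k) (G : MvPolynomial (Fin (r + 1)) k) (l : Fin (r + 1)) :
    hq c w (G * MvPolynomial.X l) = hq c w G * c l + (∑ j, w j * grad c G j) * w l := by
  rw [hq, hqW_mul_X]
  simp [hq, map_sum, grad_apply]

theorem eval_hqW (c : Fin (r + 1) → k) (W : Fin (r + 1) → MvPolynomial (Fin (r + 1)) k)
    (G : MvPolynomial (Fin (r + 1)) k) : eval c (hqW W G) = hq c (fun j => eval c (W j)) G := by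
  induction G using MvPolynomial.induction_on with
  | C t => rw [hqW_C, hq_C, map_zero]
  | add p q hp hq' => rw [hqW_add, map_add, hq_add, hp, hq']
  | mul_X p l hp =>
    rw [hqW_mul_X, hq_mul_X, ← hp]
    simp [map_sum, grad_apply]

/-- The Hessian at `c` applied to `w`. -/
def hessVec (c w : Fin (r + 1) → k) : MvPolynomial (Fin (r + 1)) k →ₗ[k] (Fin (r + 1) → k) :=
  grad c ∘ₗ ∑ l, w l • (pderiv l).toLinearMap

theorem hessVec_apply (c w : Fin (r + 1) → k) (G : MvPolynomial (Fin (r + 1)) k) :
    hessVec c w G = grad c (∑ l, C (w l) * pderiv l G) := by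
  simp [hessVec, smul_eq_C_mul]

theorem hessVec_single (c : Fin (r + 1) → k) (p : Fin (r + 1)) (G : MvPolynomial (Fin (r + 1)) k) :
    hessVec c (Pi.single p 1) G = grad c (pderiv p G) := by
  classical
  rw [hessVec_apply, Finset.sum_eq_single p (fun l _ hl => by simp [Pi.single_eq_of_ne hl]) (by simp), Pi.single_eq_same,
    map_one, one_mul]

/-- Polarisation of the second derivative. -/
theorem hq_polar (c w w' : Fin (r + 1) → k) (G : MvPolynomial (Fin (r + 1)) k) :
    hq c (w + w') G = hq c w G + hq c w' G + ∑ j, w' j * hessVec c w G j := by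
  classical
  induction G using MvPolynomial.induction_on with
  | C t => simp [hq_C, hessVec_apply]
  | add p q hp hq' =>
    rw [hq_add, hq_add, hq_add, hp, hq', map_add]
    simp only [Pi.add_apply, mul_add, Finset.sum_add_distrib]
    ring
  | mul_X p l hp =>
    have e : ∑ t, C (w t) * pderiv t (p * MvPolynomial.X l) =
        (∑ t, C (w t) * pderiv t p) * MvPolynomial.X l + C (w l) * p := by
      simp only [pderiv_mul, mul_add, Finset.sum_add_distrib, ← mul_assoc, ← Finset.sum_mul]
      congr 1
      rw [Fintype.sum_eq_single l (fun t ht => by rw [pderiv_X_of_ne (Ne.symm ht), mul_zero]), pderiv_X_self, mul_one]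
    have hgX : ∀ j, grad c (MvPolynomial.X l : MvPolynomial (Fin (r + 1)) k) j = if j = l then 1 else 0 := by
      intro j
      rw [grad_apply]
      split_ifs with h
      · rw [h, pderiv_X_self, map_one]
      · rw [pderiv_X_of_ne (Ne.symm h), map_zero]
    have hh : ∑ j, w' j * hessVec c w (p * MvPolynomial.X l) j = (∑ j, w' j * hessVec c w p j) * c l +
        (∑ t, w t * grad c p t) * w' l + w l * ∑ j, w' j * grad c p j := by
      rw [hessVec_apply, hessVec_apply, e, map_add, grad_mul, grad_mul, show grad c (C (w l)) = 0 by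
        funext j; simp [grad_apply], show eval c (∑ t, C (w t) * pderiv t p) = ∑ t, w t * grad c p t by
          simp [map_sum, grad_apply]]
      simp only [Pi.add_apply, Pi.smul_apply, Pi.zero_apply, smul_eq_mul, eval_C, eval_X, hgX, mul_ite, mul_one,
        mul_zero, zero_add, mul_add, Finset.sum_add_distrib, Finset.sum_ite_eq', Finset.mem_univ, if_true,
        mul_left_comm (w' _), ← Finset.mul_sum]
      ring
    rw [hq_mul_X, hq_mul_X, hq_mul_X, hp, hh]
    simp only [Pi.add_apply, add_mul, Finset.sum_add_distrib]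
    ring

theorem hessVec_symm (c w w' : Fin (r + 1) → k) (G : MvPolynomial (Fin (r + 1)) k) :
    ∑ j, w' j * hessVec c w G j = ∑ j, w j * hessVec c w' G j := by
  have h1 := hq_polar c w w' G
  have h2 := hq_polar c w' w G
  rw [add_comm w' w] at h2
  linear_combination h2 - h1

/-- Euler's identity for the Hessian. -/
theorem sum_mul_hessVec {c w : Fin (r + 1) → k} {F : MvPolynomial (Fin (r + 1)) k} {e : ℕ} (hF : F.IsHomogeneous e) :
    ∑ j, c j * hessVec c w F j = ((e - 1 : ℕ) : k) * ∑ l, w l * grad c F l := by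
  rw [hessVec_apply, Groth.L05.DualVar.sum_mul_grad (IsHomogeneous.sum _ _ _ fun l _ => hF.pderiv.C_mul (w l))]
  simp [map_sum, grad_apply]

end Groth.L05.Nd
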