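import Groth.Agent.L05.Nd.Quad
import Groth.Agent.L28.HessCrit.Hess

/-! Quadratic parts of power series. -/

set_option autoImplicit false
set_option linter.style.haveILetI false

universe u

open MvPowerSeries Groth.L28.PSer

noncomputable section

namespace Groth.L05.Nd

open VanCyc (quadEval quadPart QuadOrd NoLowTerms polarMatrix)

variable {k : Type u} [Field k] {n : ℕ}

/-- The value of the quadratic part of a series. -/
def qp (z : Fin n → k) (f : MvPowerSeries (Fin n) k) : k := quadEval (quadPart f) z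

/-- The value of the linear part of a series. -/
def lin (z : Fin n → k) (f : MvPowerSeries (Fin n) k) : k := ∑ j : Fin n, coeff (Finsupp.single j 1) f * z j

theorem qp_eq (z : Fin n → k) (f : MvPowerSeries (Fin n) k) :
    qp z f = ∑ i, ∑ j, if i ≤ j then coeff (Finsupp.single i 1 + Finsupp.single j 1) f * z i * z j else 0 := by
  unfold qp quadEval
  refine Finset.sum_congr rfl fun i _ => Finset.sum_congr rfl fun j _ => ?_
  split_ifs with h
  · rcases h.eq_or_lt with rfl | hlt
    · simp [quadPart, ← Finsupp.single_add]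
    · simp [quadPart, hlt.ne, hlt]
  · rfl

theorem qp_add (z : Fin n → k) (f g : MvPowerSeries (Fin n) k) : qp z (f + g) = qp z f + qp z g := by
  simp only [qp_eq, map_add, ← Finset.sum_add_distrib]
  refine Finset.sum_congr rfl fun i _ => Finset.sum_congr rfl fun j _ => ?_
  split_ifs <;> ring

theorem qp_C_mul (z : Fin n → k) (c : k) (f : MvPowerSeries (Fin n) k) : qp z (C c * f) = c * qp z f := by
  simp only [qp_eq, coeff_C_mul, Finset.mul_sum]
  refine Finset.sum_congr rfl fun i _ => Finset.sum_congr rfl fun j _ => ?_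
  split_ifs <;> ring

/-- `qp` as an additive map. -/
def qpHom (z : Fin n → k) : MvPowerSeries (Fin n) k →+ k := AddMonoidHom.mk' (qp z) (qp_add z)

theorem qp_sub (z : Fin n → k) (f g : MvPowerSeries (Fin n) k) : qp z (f - g) = qp z f - qp z g :=
  (qpHom z).map_sub f g

theorem qp_sum (z : Fin n → k) {ι : Type*} (s : Finset ι) (f : ι → MvPowerSeries (Fin n) k) :
    qp z (∑ a ∈ s, f a) = ∑ a ∈ s, qp z (f a) :=
  map_sum (qpHom z) f s

theorem qp_eq_zero (z : Fin n → k) {f : MvPowerSeries (Fin n) k} (hf : f ∈ M (Fin n) k ^ 3) : qp z f = 0 := by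
  rw [qp_eq]
  refine Finset.sum_eq_zero fun i _ => Finset.sum_eq_zero fun j _ => ?_
  split_ifs
  · rw [coeff_of_lt_order (lt_of_lt_of_le (Nat.cast_lt.2 (by simp : (Finsupp.single i 1 + Finsupp.single j 1 : Fin n →₀ ℕ).degree < 3)) (order_mem_pow f 3 hf)), zero_mul, zero_mul]
  · rfl

theorem qp_C (z : Fin n → k) (c : k) : qp z (C c : MvPowerSeries (Fin n) k) = 0 := by
  classical
  rw [qp_eq]
  refine Finset.sum_eq_zero fun i _ => Finset.sum_eq_zero fun j _ => ?_
  split_ifs
  · rw [coeff_C, if_neg, zero_mul, zero_mul]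
    intro h
    have := congrArg (fun d => d i) h
    simp at this
  · rfl

theorem qp_X_mul_X (z : Fin n → k) (p q : Fin n) : qp z (X p * X q : MvPowerSeries (Fin n) k) = z p * z q := by
  classical
  wlog hpq : p ≤ q generalizing p q
  · rw [mul_comm, this q p (le_of_not_ge hpq), mul_comm]
  simp only [qp_eq, X, monomial_mul_monomial, one_mul, coeff_monomial]
  rw [Finset.sum_eq_single p ?_ (by simp), Finset.sum_eq_single q ?_ (by simp), if_pos hpq, if_pos rfl, one_mul]
  · intro j _ hj
    split_ifs with h1 h2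
    · exact absurd ((Groth.L28.Morse.pair_eq hpq h1).1 h2).2 hj
    all_goals simp
  · intro i _ hi
    refine Finset.sum_eq_zero fun j _ => ?_
    split_ifs with h1 h2
    · exact absurd ((Groth.L28.Morse.pair_eq hpq h1).1 h2).1 hi
    all_goals simp

theorem qp_mul_of_constantCoeff (z : Fin n → k) {f g : MvPowerSeries (Fin n) k} (hf : constantCoeff f = 0)
    (hg : constantCoeff g = 0) : qp z (f * g) = lin z f * lin z g := by
  set lf := ∑ j, C (coeff (Finsupp.single j 1) f) * X j with hlf
  set lg := ∑ j, C (coeff (Finsupp.single j 1) g) * X j with hlg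
  have hM : ∀ (c : Fin n → k), (∑ j, C (c j) * X j : MvPowerSeries (Fin n) k) ∈ M (Fin n) k :=
    fun c => Submodule.sum_mem _ fun j _ => Ideal.mul_mem_left _ _ (X_mem j)
  have h1 : f * g - lf * lg ∈ M (Fin n) k ^ 3 := by
    have hfM : f ∈ M (Fin n) k := by
      rw [← sub_add_cancel f lf]
      exact add_mem (Ideal.pow_le_self two_ne_zero (sub_linear_mem_sq f hf)) (hM _)
    rw [show f * g - lf * lg = f * (g - lg) + (f - lf) * lg by ring]
    refine add_mem ?_ ?_
    · rw [pow_succ']
      exact Ideal.mul_mem_mul hfM (sub_linear_mem_sq g hg)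
    · rw [pow_succ]
      exact Ideal.mul_mem_mul (sub_linear_mem_sq f hf) (hM _)
  have h2 : qp z (f * g) = qp z (lf * lg) := by rw [← sub_eq_zero, ← qp_sub, qp_eq_zero z h1]
  rw [h2, hlf, hlg, Finset.sum_mul_sum, qp_sum, lin, lin, Finset.sum_mul_sum]
  refine Finset.sum_congr rfl fun i _ => ?_
  rw [qp_sum]
  refine Finset.sum_congr rfl fun j _ => ?_
  rw [show C (coeff (Finsupp.single i 1) f) * X i * (C (coeff (Finsupp.single j 1) g) * X j) =
    C (coeff (Finsupp.single i 1) f * coeff (Finsupp.single j 1) g) * (X i * X j : MvPowerSeries (Fin n) k) by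
      rw [map_mul]; ring, qp_C_mul, qp_X_mul_X]
  ring

theorem qp_mul (z : Fin n → k) (f g : MvPowerSeries (Fin n) k) :
    qp z (f * g) = constantCoeff f * qp z g + constantCoeff g * qp z f + lin z f * lin z g := by
  have hlin : ∀ f : MvPowerSeries (Fin n) k, lin z (f - C (constantCoeff f)) = lin z f := fun f => by
    classical
    refine Finset.sum_congr rfl fun j _ => ?_
    rw [map_sub, coeff_C, if_neg (by simp), sub_zero]
  have hq : ∀ f : MvPowerSeries (Fin n) k, qp z (f - C (constantCoeff f)) = qp z f := fun f => by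
    rw [qp_sub, qp_C, sub_zero]
  have h := qp_mul_of_constantCoeff z (f := f - C (constantCoeff f)) (g := g - C (constantCoeff g)) (by simp) (by simp)
  rw [hlin, hlin, show (f - C (constantCoeff f)) * (g - C (constantCoeff g)) =
    f * g - C (constantCoeff f) * g - C (constantCoeff g) * (f - C (constantCoeff f)) by ring, qp_sub, qp_sub,
    qp_C_mul, qp_C_mul, hq] at h
  linear_combination h

/-- Ordinarity of the quadratic part depends only on the quotient. -/
theorem quadOrd_of_algEquiv {F g : MvPowerSeries (Fin n) k} (hn : 0 < n) (hF : NoLowTerms F) (hg : NoLowTerms g)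
    (hFo : QuadOrd (quadPart F))
    (ψ : (MvPowerSeries (Fin n) k ⧸ Ideal.span {F}) ≃ₐ[k] (MvPowerSeries (Fin n) k ⧸ Ideal.span {g})) :
    QuadOrd (quadPart g) := by
  let S := MvPowerSeries (Fin n) k
  let π : S →ₐ[k] S ⧸ Ideal.span {F} := Ideal.Quotient.mkₐ k _
  let π' : S →ₐ[k] S ⧸ Ideal.span {g} := Ideal.Quotient.mkₐ k _
  let χ : S →ₐ[k] S ⧸ Ideal.span {g} := ψ.toAlgHom.comp π
  have hF0 : F ∈ M (Fin n) k := Ideal.pow_le_self two_ne_zero (Groth.L28.HessCrit.mem_sq_of_noLow hF)
  have hg0 : g ∈ M (Fin n) k := Ideal.pow_le_self two_ne_zero (Groth.L28.HessCrit.mem_sq_of_noLow hg)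
  have hMne : M (Fin n) k ≠ ⊤ := by
    rw [← maximalIdeal_eq]; exact (IsLocalRing.maximalIdeal.isMaximal S).ne_top
  haveI : Nontrivial (S ⧸ Ideal.span {F}) := Ideal.Quotient.nontrivial_iff.mpr
    (ne_top_of_le_ne_top hMne ((Ideal.span_singleton_le_iff_mem _).mpr hF0))
  haveI : Nontrivial (S ⧸ Ideal.span {g}) := Ideal.Quotient.nontrivial_iff.mpr
    (ne_top_of_le_ne_top hMne ((Ideal.span_singleton_le_iff_mem _).mpr hg0))
  haveI : IsLocalRing (S ⧸ Ideal.span {g}) :=
    IsLocalRing.of_surjective' π'.toRingHom (Ideal.Quotient.mkₐ_surjective k _)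
  have hχs : Function.Surjective χ := ψ.surjective.comp (Ideal.Quotient.mkₐ_surjective k _)
  have hχM : (M (Fin n) k).map χ = (M (Fin n) k).map π' := by
    rw [← maximalIdeal_eq]
    exact (IsLocalRing.map_maximalIdeal_of_surjective χ.toRingHom hχs).trans
      (IsLocalRing.map_maximalIdeal_of_surjective π'.toRingHom
        (Ideal.Quotient.mkₐ_surjective k _)).symm
  choose v hv using fun p => Ideal.Quotient.mkₐ_surjective k (Ideal.span {g}) (χ (X p))
  have hv0 : ∀ p, constantCoeff (v p) = 0 := fun p => by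
    by_contra h
    have hu : IsUnit (π' (v p)) :=
      (MvPowerSeries.isUnit_iff_constantCoeff.2 (isUnit_iff_ne_zero.2 h)).map π'
    rw [show π' (v p) = χ (X p) from hv p] at hu
    have hm : χ (X p) ∈ (M (Fin n) k).map π' := hχM ▸ Ideal.mem_map_of_mem χ (X_mem p)
    have htop := Ideal.eq_top_of_isUnit_mem _ hm hu
    rw [← maximalIdeal_eq] at htop
    exact (IsLocalRing.maximalIdeal.isMaximal (S ⧸ Ideal.span {g})).ne_top
      ((IsLocalRing.map_maximalIdeal_of_surjective π'.toRingHom
        (Ideal.Quotient.mkₐ_surjective k _)).symm.trans htop)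
  have hC : ∀ c, χ (C c) = π' (C c) := fun c => by
    rw [show (C c : S) = algebraMap k S c from rfl, AlgHom.commutes, AlgHom.commutes]
  -- the linear part has a left inverse
  let L : Matrix (Fin n) (Fin n) k := fun p i => coeff (Finsupp.single i 1) (v p)
  have hlin : ∀ j : Fin n, ∃ c : Fin n → k, ∀ i, ∑ p, c p * L p i = if j = i then 1 else 0 := by
    intro j
    obtain ⟨h, hh, hhj⟩ : ∃ h ∈ M (Fin n) k, χ h = π' (X j) :=
      (Ideal.mem_map_iff_of_surjective χ hχs).1 (hχM ▸ Ideal.mem_map_of_mem π' (X_mem j))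
    refine ⟨fun p => coeff (Finsupp.single p 1) h, fun i => ?_⟩
    have hc0 : constantCoeff h = 0 := one_le_order_iff_constCoeff_eq_zero.1
      (by simpa using order_mem_pow h 1 (by simpa using hh))
    have h2 := Ideal.mem_map_of_mem χ (sub_linear_mem_sq h hc0)
    rw [Ideal.map_pow, hχM, ← Ideal.map_pow] at h2
    obtain ⟨w, hw, hwe⟩ := (Ideal.mem_map_iff_of_surjective π'
      (Ideal.Quotient.mkₐ_surjective k _)).1 h2
    have h3 : π' w = π' (X j - ∑ p, C (coeff (Finsupp.single p 1) h) * v p) := by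
      rw [hwe]
      simp only [map_sub, map_sum, map_mul, hC, hhj]
      exact congrArg _ (Finset.sum_congr rfl fun p _ => by rw [show π' (v p) = χ (X p) from hv p])
    obtain ⟨u, hu⟩ := Ideal.mem_span_singleton.1 ((Ideal.Quotient.mk_eq_mk_iff_sub_mem _ _).1 h3)
    have h4 := congrArg (coeff (Finsupp.single i 1)) hu
    rw [Groth.L28.HessCrit.coeff_single_of_mem_sq (Ideal.mul_mem_right u _ (Groth.L28.HessCrit.mem_sq_of_noLow hg)), map_sub,
      Groth.L28.HessCrit.coeff_single_of_mem_sq hw, map_sub, map_sum, zero_sub, neg_eq_zero, sub_eq_zero] at h4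
    simp only [coeff_C_mul, coeff_X] at h4
    rw [← h4]
    exact if_congr ⟨fun h => ((Finsupp.single_eq_single_iff _ _ _ _).1 h).elim
        (fun h => h.1.symm) (fun h => absurd h.1 one_ne_zero), fun h => h ▸ rfl⟩ rfl rfl
  choose c hc using hlin
  have hL : IsUnit L.det := Matrix.isUnit_det_of_left_inverse (B := Matrix.of c) (by
    ext j i; rw [Matrix.mul_apply, Matrix.one_apply]; exact hc j i)
  -- the quadratic parts are proportional
  have hQ : Groth.L28.Morse.Q (VanCyc.quadPart F) X - F ∈ M (Fin n) k ^ 3 := by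
    rw [← neg_mem_iff, neg_sub]
    exact mem_pow_of_order 3 _ (Groth.L28.Morse.order_sub_quadPart hF)
  have h5 := Ideal.mem_map_of_mem χ hQ
  rw [Ideal.map_pow, hχM, ← Ideal.map_pow] at h5
  obtain ⟨w, hw, hwe⟩ := (Ideal.mem_map_iff_of_surjective π'
    (Ideal.Quotient.mkₐ_surjective k _)).1 h5
  have hFz : χ F = 0 := by
    show ψ (Ideal.Quotient.mk _ F) = 0
    rw [Ideal.Quotient.eq_zero_iff_mem.2 (Ideal.mem_span_singleton_self F), map_zero]
  have h6 : π' w = π' (Groth.L28.Morse.Q (VanCyc.quadPart F) v) := by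
    rw [hwe, map_sub, hFz, sub_zero]
    simp only [Groth.L28.Morse.Q, map_sum]
    refine Finset.sum_congr rfl fun p _ => Finset.sum_congr rfl fun q _ => ?_
    split_ifs
    · simp only [map_mul, hC, show ∀ p, π' (v p) = χ (X p) from hv]
    · simp
  obtain ⟨u, hu⟩ := Ideal.mem_span_singleton.1 ((Ideal.Quotient.mk_eq_mk_iff_sub_mem _ _).1 h6)
  have key : ∀ z, quadEval (quadPart F) (L.mulVec z) = -constantCoeff u * quadEval (quadPart g) z := by
    intro z
    have h7 := congrArg (qp z) hu
    rw [qp_sub, qp_eq_zero z hw, qp_mul, hg.1, zero_mul, zero_add] at h7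
    have hlg : lin z g = 0 := Finset.sum_eq_zero fun j _ => by rw [hg.2 j, zero_mul]
    rw [hlg, zero_mul, add_zero] at h7
    have h8 : qp z (Groth.L28.Morse.Q (quadPart F) v) = quadEval (quadPart F) (L.mulVec z) := by
      simp only [Groth.L28.Morse.Q, qp_sum, quadEval]
      refine Finset.sum_congr rfl fun p _ => Finset.sum_congr rfl fun q _ => ?_
      split_ifs
      · rw [mul_assoc, qp_C_mul, qp_mul_of_constantCoeff z (hv0 p) (hv0 q), mul_assoc]
        rfl
      · exact (qpHom z).map_zero
    rw [h8, zero_sub] at h7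
    show quadEval (quadPart F) (L.mulVec z) = -constantCoeff u * qp z g
    linear_combination -h7
  have hu0 : -constantCoeff u ≠ 0 := by
    intro h0
    have hne : (Pi.single (⟨0, hn⟩ : Fin n) 1 : Fin n → k) ≠ 0 := by simp
    have hsurj : ∀ y, ∃ z, L.mulVec z = y := fun y =>
      Matrix.mulVec_surjective_iff_isUnit.2 ((Matrix.isUnit_iff_isUnit_det _).2 hL) y
    have hall : ∀ y, quadEval (quadPart F) y = 0 := fun y => by
      obtain ⟨z, rfl⟩ := hsurj y
      rw [key, h0, zero_mul]
    refine hne (hFo _ (hall _) (funext fun i => ?_))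
    have h := Groth.L28.HensModel.quadEval_add (quadPart F) (Pi.single i 1) (Pi.single (⟨0, hn⟩ : Fin n) 1)
    rw [hall, hall, hall, zero_add, add_zero, Finset.sum_eq_single i (fun p _ hp => by simp [Pi.single_eq_of_ne hp])
      (by simp)] at h
    rw [Pi.zero_apply, Matrix.mulVec, dotProduct]
    refine Eq.trans ?_ h.symm
    exact Finset.sum_congr rfl fun q _ => by rw [Pi.single_eq_same, one_mul]
  refine Groth.L28.HensModel.quadOrd_congr (quadPart g) (quadPart F) L (-constantCoeff u)⁻¹ (inv_ne_zero hu0) hL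
    (fun z => ?_) hFo
  rw [key, inv_mul_cancel_left₀ hu0]

end Groth.L05.Nd
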