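import Groth.Agent.L05.OrdQuad.Compl
import Groth.Agent.L05.Nd.Series

/-! Power series parametrisation of a regular local ring with a coefficient field. -/

set_option autoImplicit false
set_option linter.style.haveILetI false

universe u

open IsLocalRing

noncomputable section

namespace Groth.L05.Nd

open Groth.L28.PSer (M)

variable {k : Type u} [Field k] {N : ℕ} {A : Type u} [CommRing A] [IsRegularLocalRing A]

/-- A parametrisation by power series. -/
structure Param (F₀ : k →+* A) (t : Fin N → A) where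
  ν : A →+* MvPowerSeries (Fin N) k
  ν_C : ∀ c, ν (F₀ c) = MvPowerSeries.C c
  ν_t : ∀ l, ν (t l) = MvPowerSeries.X l
  span_t : Ideal.span (Set.range t) = maximalIdeal A
  residue_surjective : Function.Surjective ((residue A).comp F₀)
  compl : ∀ (S : Type u) [CommRing S] [IsLocalRing S] [IsNoetherianRing S] (p : A →+* S), Function.Surjective p →
    ∀ h : A, RingHom.ker p = Ideal.span {h} →
      ∃ e : AdicCompletion (maximalIdeal S) S ≃+* (MvPowerSeries (Fin N) k ⧸ Ideal.span {ν h}),
        ∀ c : k, e (algebraMap S _ (p (F₀ c))) = Ideal.Quotient.mk _ (MvPowerSeries.C c)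

theorem exists_param (F₀ : k →+* A) (hF : Function.Surjective ((residue A).comp F₀))
    (t : Fin N → A) (ht : Ideal.span (Set.range t) = maximalIdeal A) (hdim : ringKrullDim A = N) :
    Nonempty (Param F₀ t) := by
  let R := AdicCompletion (maximalIdeal A) A
  haveI : IsRegularLocalRing R := (Groth.L01.CompletionReg.isRegularLocalRing_iff_completion A).mp inferInstance
  have hcomp : (maximalIdeal A).map (algebraMap A R) = maximalIdeal R :=
    Groth.L01.AnalUnram.completion_map_maximalIdeal A
  let F : k →+* R := (algebraMap A R).comp F₀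
  have hFs : Function.Surjective ((residue R).comp F) := fun y => by
    obtain ⟨z, rfl⟩ := (AdicCompletion.residueField_map_bijective A).2 y
    obtain ⟨c, hc⟩ := hF z
    refine ⟨c, ?_⟩
    rw [← hc]
    rfl
  have hx : Ideal.span (Set.range fun i => algebraMap A R (t i)) = maximalIdeal R := by
    refine Eq.trans ?_ hcomp
    refine Eq.trans ?_ (congrArg (Ideal.map (algebraMap A R)) ht)
    rw [Ideal.map_span, ← Set.range_comp]
    rfl
  obtain ⟨φ, hC, hX, hs⟩ := Groth.L01.Cohen.exists_surjective_powerSeries F hFs _ hx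
  haveI : IsRegularLocalRing (MvPowerSeries (Fin N) k) := Groth.L01.PowSerReg.isRegularLocalRing k N
  haveI := Groth.L01.isDomain_of_regular (MvPowerSeries (Fin N) k)
  have hdimR : ringKrullDim R = ringKrullDim A := by
    exact Groth.L01.CompletionReg.ringKrullDim_completion A
  have hinj : Function.Injective φ := Groth.L06.FormSmooth.injective_of_surjective_of_dim φ hs (by
    rw [hdimR, hdim, Groth.L01.PowSerReg.ringKrullDim_eq k N])
  let ψ : MvPowerSeries (Fin N) k ≃+* R := RingEquiv.ofBijective φ ⟨hinj, hs⟩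
  refine ⟨⟨ψ.symm.toRingHom.comp (algebraMap A R), fun c => ?_, fun l => ?_, ht, hF, ?_⟩⟩
  · show ψ.symm (algebraMap A R (F₀ c)) = _
    rw [RingEquiv.symm_apply_eq]
    exact (RingHom.congr_fun hC c).symm
  · show ψ.symm (algebraMap A R (t l)) = _
    rw [RingEquiv.symm_apply_eq]
    exact (hX l).symm
  · intro S _ _ _ p hp h hker
    obtain ⟨e, he⟩ := Groth.L06.CplQuotient.exists_completionQuotEquiv_compat p hp
    have hI : (RingHom.ker p).map (algebraMap A R) =
        (Ideal.span {ψ.symm (algebraMap A R h)}).map ψ.toRingHom := by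
      rw [hker, Ideal.map_span, Ideal.map_span, Set.image_singleton, Set.image_singleton]
      congr 2
      exact (ψ.apply_symm_apply _).symm
    refine ⟨e.symm.trans (Ideal.quotientEquiv _ _ ψ hI).symm, fun c => ?_⟩
    show (Ideal.quotientEquiv _ _ ψ hI).symm (e.symm (algebraMap S _ (p (F₀ c)))) = _
    rw [← he (F₀ c), e.symm_apply_apply]
    refine (RingEquiv.symm_apply_eq _).2 ?_
    exact congrArg (Ideal.Quotient.mk _) (RingHom.congr_fun hC c).symm

namespace Param

variable {F₀ : k →+* A} {t : Fin N → A} (P : Param F₀ t)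
include P

theorem mem_M {x : A} (hx : x ∈ maximalIdeal A) : P.ν x ∈ M (Fin N) k := by
  rw [← P.span_t] at hx
  refine Ideal.mem_comap.1 ((Ideal.map_le_iff_le_comap (f := P.ν) (K := M (Fin N) k)).1 ?_ hx)
  rw [Ideal.map_span, Ideal.span_le]
  rintro _ ⟨_, ⟨l, rfl⟩, rfl⟩
  rw [P.ν_t]
  exact Groth.L28.PSer.X_mem l

theorem mem_M_pow {x : A} {e : ℕ} (hx : x ∈ maximalIdeal A ^ e) : P.ν x ∈ M (Fin N) k ^ e := by
  have h : (maximalIdeal A).map P.ν ≤ M (Fin N) k := Ideal.map_le_iff_le_comap.2 fun y hy => P.mem_M hy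
  exact Ideal.pow_right_mono h e (Ideal.map_pow P.ν (maximalIdeal A) e ▸ Ideal.mem_map_of_mem P.ν hx)

theorem noLow_of_mem_sq {x : A} (hx : x ∈ maximalIdeal A ^ 2) : VanCyc.NoLowTerms (P.ν x) := by
  have h := Groth.L28.PSer.order_mem_pow _ 2 (P.mem_M_pow hx)
  constructor
  · rw [← MvPowerSeries.coeff_zero_eq_constantCoeff_apply]
    exact MvPowerSeries.coeff_of_lt_order (lt_of_lt_of_le (Nat.cast_lt.2 (by simp)) h)
  · intro l
    exact MvPowerSeries.coeff_of_lt_order (lt_of_lt_of_le (Nat.cast_lt.2 (by simp)) h)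

/-- Membership in the square of the maximal ideal is read off the linear part. -/
theorem mem_sq_of_lin {x : A} (hx : x ∈ maximalIdeal A)
    (h : ∀ l, MvPowerSeries.coeff (Finsupp.single l 1) (P.ν x) = 0) : x ∈ maximalIdeal A ^ 2 := by
  classical
  have hx' := hx
  rw [← P.span_t, Ideal.mem_span_range_iff_exists_fun] at hx'
  obtain ⟨a, rfl⟩ := hx'
  refine Submodule.sum_mem _ fun l _ => ?_
  rw [pow_two]
  refine Ideal.mul_mem_mul ?_ (P.span_t.le (Ideal.subset_span ⟨l, rfl⟩))
  have hl := h l
  rw [map_sum, map_sum, Finset.sum_eq_single l ?_ (by simp)] at hl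
  · rw [map_mul, P.ν_t, Groth.L28.HessCrit.coeff_single_mul_of_constantCoeff _ _ (MvPowerSeries.constantCoeff_X l),
      MvPowerSeries.coeff_X, if_pos rfl, mul_one] at hl
    obtain ⟨c, hc⟩ := P.residue_surjective (residue A (a l))
    have hm : a l - F₀ c ∈ maximalIdeal A := by
      rw [← residue_eq_zero_iff, map_sub, sub_eq_zero]; exact hc.symm
    have hM : P.ν (a l - F₀ c) ∈ M (Fin N) k := P.mem_M hm
    have h0 : MvPowerSeries.constantCoeff (P.ν (a l - F₀ c)) = 0 :=
      MvPowerSeries.one_le_order_iff_constCoeff_eq_zero.1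
        (by simpa using Groth.L28.PSer.order_mem_pow _ 1 (by simpa using hM))
    rw [map_sub, map_sub, hl, P.ν_C, MvPowerSeries.constantCoeff_C, zero_sub, neg_eq_zero] at h0
    rwa [h0, map_zero, sub_zero] at hm
  · intro l' _ hl'
    rw [map_mul, P.ν_t, Groth.L28.HessCrit.coeff_single_mul_of_constantCoeff _ _ (MvPowerSeries.constantCoeff_X l'),
      MvPowerSeries.coeff_X, if_neg, mul_zero]
    simp [Finsupp.single_eq_single_iff, Ne.symm hl']

end Param

end Groth.L05.Nd
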