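import Groth.Agent.L05.DualVar.Main
import Groth.Agent.L05.Nd.Param
import Groth.Agent.L05.Nd.Hess

/-! The quadratic part of a form at a point of a smooth subvariety of projective space. -/

set_option autoImplicit false
set_option linter.style.haveILetI false
set_option backward.isDefEq.respectTransparency false
set_option backward.isDefEq.respectTransparency.types false
set_option maxHeartbeats 1000000

universe u

open CategoryTheory CategoryTheory.Limits AlgebraicGeometry TopologicalSpace MvPolynomial IsLocalRing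

noncomputable section

namespace Groth.L05.Nd

open Groth.L05.OrdQuad (σ exists_residue)
open Groth.L05.DualVar (grad grad_apply grad_mul tc IsCoord jetKer mem_jetKer tc_mem coord_self σ_mem_iff Van Eqns)
open VanCyc (quadPart QuadOrd polarMatrix quadEval)

variable {k : Type u} [Field k] {r : ℕ} {X : Scheme.{u}} {i : X ⟶ CohB1.ProjSpace r k}

theorem exists_param_coord [IsAlgClosed k] [IsClosedImmersion i] {n : ℕ}
    [SmoothOfRelativeDimension n (i ≫ CohB1.ProjSpace.toSpec r k)] [IsLocallyNoetherian X]
    {a : Fin (r + 1)} {x : X} {hxa : i x ∈ LefPen.chart r k a} {c : Fin (r + 1) → k} (hc : IsCoord i a x hxa c)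
    (hx : IsClosed ({x} : Set X)) [IsRegularLocalRing (X.presheaf.stalk x)] :
    ∃ sel : Fin n → Fin (r + 1), Nonempty (Param ((σ i a x hxa).comp C) fun l => tc i a x hxa c (sel l)) := by
  classical
  set A := X.presheaf.stalk x
  have hfin := Groth.L14.Quot.finrank_cotangent_of_smoothOfRelativeDimension
    (i ≫ CohB1.ProjSpace.toSpec r k) n x hx
  have hdim : ringKrullDim A = ((n : ℕ) : WithBot ℕ∞) := by
    rw [← (IsRegularLocalRing.iff_finrank_cotangentSpace _).1 inferInstance, hfin]
  let T : Fin (r + 1) → maximalIdeal A := fun j => ⟨tc i a x hxa c j, tc_mem hc j⟩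
  have hspanT : Submodule.span A (Set.range T) = ⊤ := by
    refine Submodule.map_injective_of_injective (maximalIdeal A).injective_subtype ?_
    rw [Submodule.map_top, Submodule.range_subtype, Submodule.map_span, ← Set.range_comp]
    exact hc
  have hspanV : Submodule.span (ResidueField A) (Set.range fun j => (maximalIdeal A).toCotangent (T j)) = ⊤ := by
    rw [show (Set.range fun j => (maximalIdeal A).toCotangent (T j)) = (maximalIdeal A).toCotangent '' Set.range T
      from (Set.range_comp _ _)]
    exact CotangentSpace.span_image_eq_top_iff.2 hspanT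
  obtain ⟨f, hfmem, hfspan, -⟩ := Submodule.exists_fun_fin_finrank_span_eq (ResidueField A)
    (Set.range fun j => (maximalIdeal A).toCotangent (T j))
  have hrank : Module.finrank (ResidueField A)
      (Submodule.span (ResidueField A) (Set.range fun j => (maximalIdeal A).toCotangent (T j))) = n := by
    rw [hspanV, finrank_top]
    exact hfin
  choose g hg using hfmem
  let sel : Fin n → Fin (r + 1) := fun l => g (Fin.cast hrank.symm l)
  have ht : Ideal.span (Set.range fun l => tc i a x hxa c (sel l)) = maximalIdeal A := by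
    have h1 : Submodule.span A (Set.range fun l => T (sel l)) = ⊤ := by
      rw [← CotangentSpace.span_image_eq_top_iff, ← Set.range_comp, eq_top_iff, ← hspanV, ← hfspan]
      refine Submodule.span_mono ?_
      rintro _ ⟨l, rfl⟩
      refine ⟨Fin.cast hrank l, ?_⟩
      simp only [Function.comp_apply, sel, Fin.cast_cast, Fin.cast_eq_self]
      exact hg l
    have h2 := congrArg (Submodule.map (maximalIdeal A).subtype) h1
    rw [Submodule.map_top, Submodule.range_subtype, Submodule.map_span, ← Set.range_comp] at h2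
    exact h2
  refine ⟨sel, exists_param _ (fun z => ?_) _ ht hdim⟩
  obtain ⟨z, rfl⟩ := residue_surjective z
  obtain ⟨e, he⟩ := exists_residue i a x hxa hx z
  exact ⟨e, ((sub_eq_zero.1 ((map_sub _ _ _).symm.trans ((residue_eq_zero_iff _).2 he)))).symm⟩

variable {a : Fin (r + 1)} {x : X} {hxa : i x ∈ LefPen.chart r k a} {c : Fin (r + 1) → k} {n : ℕ}
  {sel : Fin n → Fin (r + 1)} [IsRegularLocalRing (X.presheaf.stalk x)]
  (P : Param ((σ i a x hxa).comp C) fun l => tc i a x hxa c (sel l))

/-- The tangent vector with parameters `z`. -/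
def wOf (z : Fin n → k) : Fin (r + 1) → k := fun j => lin z (P.ν (tc i a x hxa c j))

theorem wOf_sel (z : Fin n → k) (l : Fin n) : wOf P z (sel l) = z l := by
  classical
  rw [wOf, P.ν_t, lin, Finset.sum_eq_single l ?_ (by simp), MvPowerSeries.coeff_X, if_pos rfl, one_mul]
  intro j _ hj
  rw [MvPowerSeries.coeff_X, if_neg (by simp [Finsupp.single_eq_single_iff, hj]), zero_mul]

theorem wOf_add (z z' : Fin n → k) : wOf P (z + z') = wOf P z + wOf P z' := by
  funext j
  simp [wOf, lin, mul_add, Finset.sum_add_distrib]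

variable (hc : IsCoord i a x hxa c)
include hc

theorem ν_tc (j : Fin (r + 1)) : MvPowerSeries.constantCoeff (P.ν (tc i a x hxa c j)) = 0 :=
  MvPowerSeries.one_le_order_iff_constCoeff_eq_zero.1
    (by simpa using Groth.L28.PSer.order_mem_pow _ 1 (by simpa using P.mem_M (tc_mem hc j)))

theorem coeff_ν_sum (u : Fin (r + 1) → k) (l : Fin n) :
    MvPowerSeries.coeff (Finsupp.single l 1) (P.ν (∑ j, σ i a x hxa (C (u j)) * tc i a x hxa c j)) =
      ∑ j, u j * MvPowerSeries.coeff (Finsupp.single l 1) (P.ν (tc i a x hxa c j)) := by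
  simp only [map_sum, map_mul]
  refine Finset.sum_congr rfl fun j _ => ?_
  rw [show P.ν (σ i a x hxa (C (u j))) = MvPowerSeries.C (u j) from P.ν_C (u j), MvPowerSeries.coeff_C_mul]

theorem dot_wOf {u : Fin (r + 1) → k} (hu : u ∈ jetKer i a x hxa c) (z : Fin n → k) : ∑ j, u j * wOf P z j = 0 := by
  have h := P.noLow_of_mem_sq hu
  simp only [wOf, lin, Finset.mul_sum]
  rw [Finset.sum_comm]
  refine Finset.sum_eq_zero fun l _ => ?_
  have h1 := h.2 l
  rw [coeff_ν_sum P hc u l] at h1
  calc ∑ j, u j * (MvPowerSeries.coeff (Finsupp.single l 1) (P.ν (tc i a x hxa c j)) * z l)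
      = (∑ j, u j * MvPowerSeries.coeff (Finsupp.single l 1) (P.ν (tc i a x hxa c j))) * z l := by
        rw [Finset.sum_mul]; exact Finset.sum_congr rfl fun j _ => (mul_assoc _ _ _).symm
    _ = 0 := by rw [h1, zero_mul]

/-- Covectors orthogonal to all tangent vectors have vanishing differential. -/
theorem mem_jetKer_of_dot {u : Fin (r + 1) → k} (hu : ∀ z, ∑ j, u j * wOf P z j = 0) : u ∈ jetKer i a x hxa c := by
  classical
  refine (mem_jetKer _ _ _ _ _).2 (P.mem_sq_of_lin (Submodule.sum_mem _ fun j _ => Ideal.mul_mem_left _ _ (tc_mem hc j))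
    fun l => ?_)
  rw [coeff_ν_sum P hc u l, ← hu (Pi.single l 1)]
  refine Finset.sum_congr rfl fun j _ => congrArg _ ?_
  rw [wOf, lin, Finset.sum_eq_single l (fun t _ ht => by rw [Pi.single_eq_of_ne ht, mul_zero]) (by simp),
    Pi.single_eq_same, mul_one]

/-- Tangent vectors are parametrised by `wOf`. -/
theorem eq_wOf {w : Fin (r + 1) → k} (hw : ∀ u ∈ jetKer i a x hxa c, ∑ j, u j * w j = 0) :
    w = wOf P (fun l => w (sel l)) := by
  classical
  funext j
  let u : Fin (r + 1) → k := Pi.single j 1 -
    ∑ l, MvPowerSeries.coeff (Finsupp.single l 1) (P.ν (tc i a x hxa c j)) • Pi.single (sel l) 1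
  have hsum : ∀ v : Fin (r + 1) → k, ∑ t, u t * v t =
      v j - ∑ l, MvPowerSeries.coeff (Finsupp.single l 1) (P.ν (tc i a x hxa c j)) * v (sel l) := by
    intro v
    simp only [u, Pi.sub_apply, Finset.sum_apply, Pi.smul_apply, smul_eq_mul, sub_mul, Finset.sum_sub_distrib,
      Finset.sum_mul]
    rw [Finset.sum_comm]
    simp [Pi.single_apply]
  have hu : u ∈ jetKer i a x hxa c := mem_jetKer_of_dot P hc fun z => by
    rw [hsum]
    simp only [wOf_sel]
    exact sub_self _
  have h := hw u hu
  rw [hsum, sub_eq_zero] at h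
  exact h

/-- Jets of the germ of a polynomial. -/
theorem jets_ν (z : Fin n → k) (G : MvPolynomial (Fin (r + 1)) k) :
    MvPowerSeries.constantCoeff (P.ν (σ i a x hxa G)) = eval c G ∧
      lin z (P.ν (σ i a x hxa G)) = ∑ j, wOf P z j * grad c G j ∧
      qp z (P.ν (σ i a x hxa G)) = hq c (wOf P z) G + ∑ j, grad c G j * qp z (P.ν (tc i a x hxa c j)) := by
  classical
  induction G using MvPolynomial.induction_on with
  | C t =>
    have hC : P.ν (σ i a x hxa (C t)) = MvPowerSeries.C t := P.ν_C t
    simp only [hC, MvPowerSeries.constantCoeff_C, eval_C, qp_C, hq_C, grad_apply, pderiv_C, map_zero, zero_mul,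
      Finset.sum_const_zero, add_zero, mul_zero, lin, MvPowerSeries.coeff_C]
    refine ⟨trivial, Finset.sum_eq_zero fun j _ => ?_, trivial⟩
    simp
  | add p q hp hq =>
    obtain ⟨h1, h2, h3⟩ := hp
    obtain ⟨h1', h2', h3'⟩ := hq
    refine ⟨by simp only [map_add, h1, h1'], ?_, ?_⟩
    · rw [map_add, map_add, map_add, show lin z (P.ν (σ i a x hxa p) + P.ν (σ i a x hxa q)) =
        lin z (P.ν (σ i a x hxa p)) + lin z (P.ν (σ i a x hxa q)) by simp [lin, add_mul, Finset.sum_add_distrib],
        h2, h2']
      simp [mul_add, Finset.sum_add_distrib]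
    · rw [map_add, map_add, qp_add, h3, h3', hq_add, map_add]
      simp only [Pi.add_apply, add_mul, Finset.sum_add_distrib]
      ring
  | mul_X p l hp =>
    obtain ⟨h1, h2, h3⟩ := hp
    have hXl : P.ν (σ i a x hxa (MvPolynomial.X l)) = MvPowerSeries.C (c l) + P.ν (tc i a x hxa c l) := by
      rw [← P.ν_C (c l), RingHom.comp_apply, ← map_add, ← map_add]
      congr 2
      ring
    have hlinX : lin z (P.ν (σ i a x hxa (MvPolynomial.X l))) = wOf P z l := by
      rw [hXl]
      simp [lin, wOf, MvPowerSeries.coeff_C]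
    have hgp : ∀ j, grad c (p * MvPolynomial.X l) j = c l * grad c p j + eval c p * (if j = l then 1 else 0) := by
      intro j
      rw [grad_mul, Pi.add_apply, Pi.smul_apply, Pi.smul_apply, eval_X, smul_eq_mul, smul_eq_mul]
      congr 2
      rw [grad_apply]
      by_cases h : j = l
      · rw [h, pderiv_X_self, map_one, if_pos rfl]
      · rw [pderiv_X_of_ne (Ne.symm h), map_zero, if_neg h]
    refine ⟨?_, ?_, ?_⟩
    · rw [map_mul, map_mul, map_mul, h1, hXl, map_add, ν_tc P hc, MvPowerSeries.constantCoeff_C, add_zero, map_mul,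
        eval_X]
    · rw [map_mul, map_mul]
      have hl : ∀ f g : MvPowerSeries (Fin n) k, lin z (f * g) =
          MvPowerSeries.constantCoeff f * lin z g + MvPowerSeries.constantCoeff g * lin z f := by
        intro f g
        simp only [lin, Finset.mul_sum, ← Finset.sum_add_distrib]
        refine Finset.sum_congr rfl fun t _ => ?_
        simp only [← Groth.L28.PSer.constantCoeff_pderiv, Derivation.leibniz, smul_eq_mul, map_add, map_mul]
        ring
      rw [hl, h1, h2, hlinX, hXl, map_add, ν_tc P hc, MvPowerSeries.constantCoeff_C, add_zero]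
      simp only [hgp, mul_add, mul_ite, mul_one, mul_zero, Finset.sum_add_distrib, Finset.sum_ite_eq', Finset.mem_univ,
        if_true, mul_left_comm (wOf P z _), Finset.mul_sum]
      ring
    · rw [map_mul, map_mul, qp_mul, h1, h2, h3, hlinX, hXl, map_add, ν_tc P hc, MvPowerSeries.constantCoeff_C,
        add_zero, qp_add, qp_C, zero_add, hq_mul_X]
      simp only [hgp, add_mul, mul_ite, mul_one, mul_zero, ite_mul, zero_mul, Finset.sum_add_distrib, Finset.sum_ite_eq',
        Finset.mem_univ, if_true, mul_assoc, ← Finset.mul_sum]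
      ring

theorem quadEval_eq {G : MvPolynomial (Fin (r + 1)) k} (hG : grad c G = 0) (z : Fin n → k) :
    quadEval (quadPart (P.ν (σ i a x hxa G))) z = hq c (wOf P z) G := by
  show qp z _ = _
  rw [(jets_ν P hc z G).2.2, hG]
  simp

theorem polar_eq {G : MvPolynomial (Fin (r + 1)) k} (hG : grad c G = 0) (z z' : Fin n → k) :
    ∑ l, z' l * (polarMatrix (quadPart (P.ν (σ i a x hxa G)))).mulVec z l =
      ∑ j, wOf P z' j * hessVec c (wOf P z) G j := by
  have h := Groth.L28.HensModel.quadEval_add (quadPart (P.ν (σ i a x hxa G))) z' z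
  rw [quadEval_eq P hc hG, quadEval_eq P hc hG, quadEval_eq P hc hG, wOf_add, hq_polar, hessVec_symm] at h
  simp only [Matrix.mulVec, dotProduct, Finset.mul_sum, ← mul_assoc]
  linear_combination -h

/-- Ordinarity of the quadratic part in terms of second derivatives. -/
theorem quadOrd_iff {G : MvPolynomial (Fin (r + 1)) k} (hG : grad c G = 0) :
    QuadOrd (quadPart (P.ν (σ i a x hxa G))) ↔
      ∀ w : Fin (r + 1) → k, (∀ u ∈ jetKer i a x hxa c, ∑ j, u j * w j = 0) → hq c w G = 0 →
        hessVec c w G ∈ jetKer i a x hxa c → w = 0 := by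
  classical
  constructor
  · intro h w hw hq0 hB
    rw [eq_wOf P hc hw] at hq0 hB ⊢
    set z := fun l => w (sel l)
    have hz : z = 0 := by
      refine h z (by rw [quadEval_eq P hc hG]; exact hq0) (funext fun l => ?_)
      have h1 := polar_eq P hc hG z (Pi.single l 1)
      rw [Finset.sum_eq_single l (fun t _ ht => by rw [Pi.single_eq_of_ne ht, zero_mul]) (by simp), Pi.single_eq_same,
        one_mul] at h1
      rw [h1, Pi.zero_apply, ← dot_wOf P hc hB (Pi.single l 1)]
      exact Finset.sum_congr rfl fun j _ => mul_comm _ _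
    funext j
    simp [hz, wOf, lin]
  · intro h z hz0 hPz
    have hw := h (wOf P z) (fun u hu => dot_wOf P hc hu z) (by rw [← quadEval_eq P hc hG]; exact hz0)
      (mem_jetKer_of_dot P hc fun z' => by
        have h1 := polar_eq P hc hG z z'
        simp only [hPz, Pi.zero_apply, mul_zero, Finset.sum_const_zero] at h1
        rw [h1]
        exact Finset.sum_congr rfl fun j _ => mul_comm _ _)
    funext l
    rw [← wOf_sel P z l, hw]
    rfl

end Groth.L05.Nd
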