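import Groth.Agent.L05.DualVar.Elim
import Groth.Agent.L05.DualVar.Local
import Groth.Agent.L05.HypBertini.Main
import Groth.Agent.L16.ProjSpace.Charts
import Mathlib.RingTheory.Nullstellensatz

/-! Semicontinuity of the length of a finite projective zero scheme. -/

set_option autoImplicit false
set_option linter.style.haveILetI false

universe u

open MvPolynomial

noncomputable section

namespace Groth.L05.Nd

open Groth.L14.Fano (Mon)
open Groth.L05.DualVar (grad grad_apply grad_mul component_mem isPolyFun_det isPolyFun_sum)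

variable {k : Type u} [Field k] {r : ℕ} {V : Type u} [AddCommGroup V] [Module k V]
  {J : Type*} [Fintype J] (δ : J → ℕ) (P : J → V → MvPolynomial (Fin (r + 1)) k)

/-- The products of monomials and equations of a given degree. -/
def prods (E : ℕ) (H : V) : Set (MvPolynomial (Fin (r + 1)) k) :=
  {F | ∃ j ν, ν.degree + δ j = E ∧ F = monomial ν 1 * P j H}

/-- A bound on the number of independent functionals killing the equations is open. -/
theorem isOpen_length (hhom : ∀ j H, (P j H).IsHomogeneous (δ j))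
    (hpoly : ∀ j μ, LefPen.IsPolyFun k fun H => coeff μ (P j H)) (H₀ : V) {ℓ E : ℕ}
    (U : Fin ℓ → MvPolynomial (Fin (r + 1)) k) (hU : ∀ s, (U s).IsHomogeneous E)
    (hspan : ∀ μ : Mon (r + 1) E, monomial μ.1 (1 : k) ∈
      Submodule.span k (prods δ P E H₀) ⊔ Submodule.span k (Set.range U)) :
    ∃ f : V → k, LefPen.IsPolyFun k f ∧ f H₀ ≠ 0 ∧
      ∀ H, f H ≠ 0 → ∀ L : Fin (ℓ + 1) → (MvPolynomial (Fin (r + 1)) k →ₗ[k] k),
        (∀ t, ∀ F ∈ prods δ P E H, L t F = 0) →
        ∃ a : Fin (ℓ + 1) → k, a ≠ 0 ∧ ∀ G : MvPolynomial (Fin (r + 1)) k, G.IsHomogeneous E → ∑ t, a t * L t G = 0 := by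
  classical
  let C' := Σ j : {j : J // δ j ≤ E}, Mon (r + 1) (E - δ j.1)
  let col : V → C' ⊕ Fin ℓ → MvPolynomial (Fin (r + 1)) k := fun H s =>
    Sum.elim (fun s : C' => monomial s.2.1 1 * P s.1.1 H) U s
  let M : V → Matrix (Mon (r + 1) E) (C' ⊕ Fin ℓ) k := fun H μ s => coeff μ.1 (col H s)
  have hM : ∀ μ, ∃ N : C' ⊕ Fin ℓ → k, (M H₀).mulVec N = Pi.single μ 1 := by
    intro μ
    have h1 : monomial μ.1 (1 : k) ∈ Submodule.span k (Set.range (col H₀)) := by
      refine (sup_le (c := Submodule.span k (Set.range (col H₀))) (Submodule.span_mono ?_) (Submodule.span_mono ?_)) (hspan μ)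
      · rintro _ ⟨j, ν, h, rfl⟩
        exact ⟨Sum.inl ⟨⟨j, by omega⟩, ⟨ν, by simp only; omega⟩⟩, rfl⟩
      · rintro _ ⟨s, rfl⟩
        exact ⟨Sum.inr s, rfl⟩
    obtain ⟨N, hN⟩ := (Submodule.mem_span_range_iff_exists_fun k).1 h1
    refine ⟨N, funext fun μ' => ?_⟩
    have h3 := congrArg (coeff μ'.1) hN
    simp only [coeff_sum, coeff_smul, smul_eq_mul, coeff_monomial] at h3
    rw [Pi.single_apply]
    simp only [Matrix.mulVec, dotProduct, M]
    rw [Finset.sum_congr rfl fun s _ => mul_comm _ _, h3]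
    by_cases h : μ' = μ
    · rw [if_pos h, if_pos (congrArg Subtype.val h).symm]
    · rw [if_neg h, if_neg fun h' => h (Subtype.ext h'.symm)]
  choose N hN using hM
  let N₀ : Matrix (C' ⊕ Fin ℓ) (Mon (r + 1) E) k := fun s μ => N μ s
  have hMN : M H₀ * N₀ = 1 := by
    ext μ' μ
    have := congrFun (hN μ) μ'
    rw [Matrix.mul_apply, Matrix.one_apply]
    rw [Pi.single_apply] at this
    exact this
  refine ⟨fun H => (M H * N₀).det, ?_, by show (M H₀ * N₀).det ≠ 0; rw [hMN, Matrix.det_one]; exact one_ne_zero,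
    fun H hH L hL => ?_⟩
  · refine isPolyFun_det _ fun μ μ' => ?_
    simp only [Matrix.mul_apply]
    refine isPolyFun_sum _ _ fun s _ => ?_
    unfold LefPen.IsPolyFun
    rw [show (fun H => M H μ s * N₀ s μ') = (N₀ s μ') • (fun H => M H μ s) from funext fun H => mul_comm _ _]
    refine Subalgebra.smul_mem _ ?_ _
    rcases s with s | s
    · by_cases hle : s.2.1 ≤ μ.1
      · rw [show (fun H => M H μ (Sum.inl s)) = fun H => coeff (μ.1 - s.2.1) (P s.1.1 H) from funext fun H => by
          simp only [M, col, Sum.elim_inl, coeff_monomial_mul', if_pos hle, one_mul]]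
        exact hpoly _ _
      · rw [show (fun H => M H μ (Sum.inl s)) = 0 from funext fun H => by
          simp only [M, col, Sum.elim_inl, coeff_monomial_mul', if_neg hle, Pi.zero_apply]]
        exact zero_mem _
    · exact Subalgebra.algebraMap_mem _ (coeff μ.1 (U s))
  · let Φ : (Fin (ℓ + 1) → k) →ₗ[k] (Fin ℓ → k) :=
      LinearMap.pi fun s => ∑ t, (L t (U s)) • LinearMap.proj t
    obtain ⟨a, hak, ha0⟩ := (Submodule.ne_bot_iff _).1
      (LinearMap.ker_ne_bot_of_finrank_lt (f := Φ) (by simp))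
    let Ψ : MvPolynomial (Fin (r + 1)) k →ₗ[k] k := ∑ t, a t • L t
    have hΨU : ∀ s, Ψ (U s) = 0 := fun s => by
      have h := congrFun (LinearMap.mem_ker.1 hak) s
      simp [Φ, Ψ, LinearMap.sum_apply, mul_comm] at h ⊢
      exact h
    have hexp : ∀ G : MvPolynomial (Fin (r + 1)) k, G.IsHomogeneous E →
        Ψ G = ∑ μ : Mon (r + 1) E, Ψ (monomial μ.1 1) * coeff μ.1 G := by
      intro G hG
      conv_lhs => rw [show G = ∑ μ : Mon (r + 1) E, monomial μ.1 (coeff μ.1 G) from
        Groth.L05.HypBertini.form_eq_sum (⟨G, (mem_homogeneousSubmodule E _).2 hG⟩ : LefPen.Form r k E)]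
      rw [map_sum]
      refine Finset.sum_congr rfl fun μ _ => ?_
      rw [show monomial μ.1 (coeff μ.1 G) = coeff μ.1 G • monomial μ.1 (1 : k) by rw [smul_monomial, smul_eq_mul, mul_one],
        map_smul, smul_eq_mul, mul_comm]
    have hv : (fun μ : Mon (r + 1) E => Ψ (monomial μ.1 1)) = 0 := by
      refine Matrix.eq_zero_of_vecMul_eq_zero hH ?_
      rw [← Matrix.vecMul_vecMul]
      have h6 : Matrix.vecMul (fun μ : Mon (r + 1) E => Ψ (monomial μ.1 1)) (M H) = 0 := by
        funext s
        simp only [Matrix.vecMul, dotProduct, M, Pi.zero_apply]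
        rcases s with s | s
        · simp only [col, Sum.elim_inl]
          have hh : (monomial s.2.1 (1 : k) * P s.1.1 H).IsHomogeneous E := by
            have := (isHomogeneous_monomial (1 : k) s.2.2).mul (hhom s.1.1 H)
            rwa [Nat.sub_add_cancel s.1.2] at this
          rw [← hexp _ hh]
          simp only [Ψ, LinearMap.sum_apply, LinearMap.smul_apply, smul_eq_mul]
          refine Finset.sum_eq_zero fun t _ => ?_
          rw [hL t _ ⟨s.1.1, s.2.1, by have := s.1.2; rw [s.2.2]; omega, rfl⟩, mul_zero]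
        · simp only [col, Sum.elim_inr]
          rw [← hexp _ (hU s), hΨU]
      rw [h6, Matrix.zero_vecMul]
    refine ⟨a, ha0, fun G hG => ?_⟩
    have h9 := hexp G hG
    rw [Finset.sum_eq_zero (fun μ _ => by rw [show Ψ (monomial μ.1 1) = 0 from congrFun hv μ, zero_mul])] at h9
    simpa [Ψ, LinearMap.sum_apply] using h9

end Groth.L05.Nd
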