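import Groth.Agent.L05.Nd.Span
import Groth.Agent.L05.Nd.Hess
import Mathlib.LinearAlgebra.Matrix.NonsingularInverse
import Mathlib.LinearAlgebra.Matrix.ToLin
import Mathlib.LinearAlgebra.Dual.Lemmas

/-! Linear algebra for the equations of a fat point. -/

set_option autoImplicit false
set_option linter.style.haveILetI false

universe u

open MvPolynomial

noncomputable section

namespace Groth.L05.Nd

open Groth.L05.DualVar (grad grad_apply grad_mul)

variable {k : Type u} [Field k] {r : ℕ}

/-- Double orthogonality. -/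
theorem mem_span_of_dot {Γ : Set (Fin (r + 1) → k)} {v : Fin (r + 1) → k}
    (h : ∀ w : Fin (r + 1) → k, (∀ γ ∈ Γ, ∑ j, γ j * w j = 0) → ∑ j, v j * w j = 0) : v ∈ Submodule.span k Γ := by
  classical
  by_contra hv
  obtain ⟨f, hfv, hf⟩ := Submodule.exists_dual_map_eq_bot_of_notMem hv inferInstance
  have hexp : ∀ x, f x = ∑ j, x j * f (Pi.single j 1) := fun x => by
    conv_lhs => rw [show x = ∑ j, x j • (Pi.single j 1 : Fin (r + 1) → k) from pi_eq_sum_univ' x, map_sum]
    simp only [map_smul, smul_eq_mul]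
  refine hfv ((hexp v).trans (h _ fun γ hγ => ?_))
  rw [← hexp]
  exact (Submodule.mem_bot k).1 (hf ▸ Submodule.mem_map_of_mem (Submodule.subset_span hγ))

/-- The cross product of `r` rows. -/
def cross (R : Fin r → Fin (r + 1) → k) (j : Fin (r + 1)) : k :=
  (Matrix.of (Fin.cons (fun p => if p = j then 1 else 0) R : Fin (r + 1) → Fin (r + 1) → k)).det

theorem dot_cross (R : Fin r → Fin (r + 1) → k) (v : Fin (r + 1) → k) :
    ∑ j, v j * cross R j = (Matrix.of (Fin.cons v R : Fin (r + 1) → Fin (r + 1) → k)).det := by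
  classical
  have h0 : ∀ v : Fin (r + 1) → k, (Matrix.of (Fin.cons v R : Fin (r + 1) → Fin (r + 1) → k)).det =
      ∑ q : Fin (r + 1), (-1) ^ (q : ℕ) * v q * (Matrix.of fun s t : Fin r => R s (q.succAbove t)).det := fun v => by
    rw [Matrix.det_succ_row_zero]
    rfl
  simp only [cross, h0, Finset.mul_sum]
  rw [Finset.sum_comm]
  refine Finset.sum_congr rfl fun q _ => ?_
  rw [Fintype.sum_eq_single q (fun j hj => by simp [Ne.symm hj])]
  rw [if_pos rfl]
  ring

theorem row_dot_cross (R : Fin r → Fin (r + 1) → k) (s : Fin r) : ∑ j, R s j * cross R j = 0 := by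
  rw [dot_cross]
  refine Matrix.det_zero_of_row_eq (i := 0) (j := s.succ) (Fin.succ_ne_zero s).symm ?_
  funext t
  simp

theorem cross_ne_zero {R : Fin r → Fin (r + 1) → k} (hR : LinearIndependent k R) {v : Fin (r + 1) → k}
    (hv : v ∉ Submodule.span k (Set.range R)) : cross R ≠ 0 := by
  intro h
  have hd : (Matrix.of (Fin.cons v R : Fin (r + 1) → Fin (r + 1) → k)).det ≠ 0 := by
    refine IsUnit.ne_zero ((Matrix.isUnit_iff_isUnit_det _).1 (Matrix.linearIndependent_rows_iff_isUnit.1 ?_))
    show LinearIndependent k (Fin.cons v R : Fin (r + 1) → Fin (r + 1) → k)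
    exact linearIndependent_finCons.2 ⟨hR, hv⟩
  refine hd ?_
  rw [← dot_cross, h]
  simp

/-- Vectors orthogonal to the rows are multiples of the cross product. -/
theorem eq_smul_cross {R : Fin r → Fin (r + 1) → k} (h : cross R ≠ 0) {z : Fin (r + 1) → k}
    (hz : ∀ s, ∑ j, R s j * z j = 0) : ∃ t : k, z = t • cross R := by
  classical
  obtain ⟨q, hq⟩ := Function.ne_iff.1 h
  refine ⟨z q / cross R q, ?_⟩
  set z' := z - (z q / cross R q) • cross R
  have h1 : (Matrix.of (Fin.cons (fun p => if p = q then 1 else 0) R : Fin (r + 1) → Fin (r + 1) → k)).mulVec z' = 0 := by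
    funext s
    refine Fin.cases ?_ (fun s => ?_) s
    · simp [Matrix.mulVec, dotProduct, z', div_mul_cancel₀ _ hq]
    · simp only [Matrix.mulVec, dotProduct, Matrix.of_apply, Fin.cons_succ, z', Pi.sub_apply, Pi.smul_apply,
        smul_eq_mul, mul_sub, Finset.sum_sub_distrib, hz, mul_left_comm (R s _), ← Finset.mul_sum, row_dot_cross,
        mul_zero, sub_zero, Pi.zero_apply]
  exact sub_eq_zero.1 (Matrix.eq_zero_of_mulVec_eq_zero hq h1)

/-- Second order expansion along a line. -/
theorem sq_expansion (c κ : Fin (r + 1) → k) {I : Ideal (MvPolynomial (Fin (r + 1)) k)}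
    {u : MvPolynomial (Fin (r + 1)) k} (hu : eval c u = 0)
    (hx : ∀ j, (MvPolynomial.X j - C (c j)) - C (κ j) * u ∈ I ⊔ ptIdeal c ^ 2) (G : MvPolynomial (Fin (r + 1)) k) :
    G - C (eval c G) - ∑ j, C (grad c G j) * (MvPolynomial.X j - C (c j)) - C (hq c κ G) * u ^ 2 ∈
      I ⊔ ptIdeal c ^ 3 := by
  classical
  set m := ptIdeal c
  set B := I ⊔ m ^ 3
  have hxm : ∀ j, MvPolynomial.X j - C (c j) ∈ m := fun j => by simp [m, ptIdeal]
  have hum : u ∈ m := hu
  have hmB : ∀ p ∈ m, ∀ q ∈ I ⊔ m ^ 2, p * q ∈ B := by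
    intro p hp q hq
    obtain ⟨q₁, hq₁, q₂, hq₂, rfl⟩ := Submodule.mem_sup.1 hq
    rw [mul_add]
    refine add_mem (Ideal.mem_sup_left (Ideal.mul_mem_left _ _ hq₁)) (Ideal.mem_sup_right ?_)
    rw [pow_succ']
    exact Ideal.mul_mem_mul hp hq₂
  induction G using MvPolynomial.induction_on with
  | C t => simp [grad_apply, hq_C]
  | add p q hp hq' =>
    convert add_mem hp hq' using 1
    simp only [hq_add, map_add, Pi.add_apply, add_mul, Finset.sum_add_distrib]
    ring
  | mul_X p l hp =>
    set xl := MvPolynomial.X l - C (c l) with hxl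
    have hg : ∀ j, grad c (p * MvPolynomial.X l) j = c l * grad c p j + if j = l then eval c p else 0 := by
      intro j
      rw [grad_mul, Pi.add_apply, Pi.smul_apply, Pi.smul_apply, eval_X, smul_eq_mul, smul_eq_mul, grad_apply c (MvPolynomial.X l)]
      by_cases h : j = l
      · rw [h, pderiv_X_self, map_one, mul_one, if_pos rfl]
      · rw [pderiv_X_of_ne (Ne.symm h), map_zero, mul_zero, if_neg h]
    have h1 : (∑ j, C (grad c p j) * (MvPolynomial.X j - C (c j))) * xl -
        C (∑ j, κ j * grad c p j) * C (κ l) * u ^ 2 ∈ B := by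
      rw [map_sum, Finset.sum_mul, Finset.sum_mul, Finset.sum_mul, ← Finset.sum_sub_distrib]
      refine Submodule.sum_mem _ fun j _ => ?_
      rw [map_mul, show C (grad c p j) * (MvPolynomial.X j - C (c j)) * xl - C (κ j) * C (grad c p j) * C (κ l) * u ^ 2 =
        C (grad c p j) * ((MvPolynomial.X j - C (c j)) * (xl - C (κ l) * u) +
          C (κ l) * (u * ((MvPolynomial.X j - C (c j)) - C (κ j) * u))) by ring]
      exact Ideal.mul_mem_left _ _ (add_mem (hmB _ (hxm j) _ (hx l)) (Ideal.mul_mem_left _ _ (hmB _ hum _ (hx j))))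
    have h2 : C (hq c κ p) * (u ^ 2 * xl) ∈ B := by
      refine Ideal.mul_mem_left _ _ (Ideal.mem_sup_right ?_)
      rw [show (3 : ℕ) = 2 + 1 from rfl, pow_succ (m : Ideal _) 2]
      exact Ideal.mul_mem_mul (Ideal.pow_mem_pow hum 2) (hxm l)
    have h3 := add_mem (add_mem (Ideal.mul_mem_right (MvPolynomial.X l) _ hp) h1) h2
    convert h3 using 1
    simp only [hq_mul_X, hg, map_add, map_mul, eval_X, add_mul, Finset.sum_add_distrib, apply_ite C, map_zero, ite_mul,
      zero_mul, Finset.sum_ite_eq', Finset.mem_univ, if_true, hxl]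
    rw [show ∑ j, C (c l) * C (grad c p j) * (MvPolynomial.X j - C (c j)) =
      C (c l) * ∑ j, C (grad c p j) * (MvPolynomial.X j - C (c j)) by
        rw [Finset.mul_sum]; exact Finset.sum_congr rfl fun j _ => mul_assoc _ _ _]
    ring

end Groth.L05.Nd
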