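import Groth.Agent.L05.Nd.Family
import Groth.Agent.L05.Nd.LinAlg

/-! The family detecting degenerate second derivatives. -/

set_option autoImplicit false
set_option linter.style.haveILetI false

universe u

open MvPolynomial

noncomputable section

namespace Groth.L05.Nd

open Groth.L05.DualVar (grad grad_apply)

variable {k : Type u} [Field k] {r : ℕ}

theorem eval_spec_det {V : Type u} [AddCommGroup V] [Module k V] {ι : Type*} [Fintype ι] [DecidableEq ι] (H : V)
    (c : Fin (r + 1) → k) (M : Matrix ι ι (MvPolynomial (Fin (r + 1)) (PFun k V))) :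
    eval c (spec H M.det) = (Matrix.of fun s t => eval c (spec H (M s t))).det := by
  simp only [Matrix.det_apply', map_sum, map_mul, map_prod, map_intCast, Matrix.of_apply]

variable {d m : ℕ} (g : Fin m → MvPolynomial (Fin (r + 1)) k) (col : Fin m → Fin (r + 1))
  (Rf : Fin r → Fin (r + 1) → MvPolynomial (Fin (r + 1)) (PFun k (LefPen.Form r k d)))

/-- The Jacobian family. -/
def jacFam : Matrix (Fin m) (Fin m) (MvPolynomial (Fin (r + 1)) (PFun k (LefPen.Form r k d))) :=
  Matrix.of fun s t => pderiv (col t) (cst (g s))

/-- The vector family. -/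
def vecFam (j : Fin (r + 1)) : MvPolynomial (Fin (r + 1)) (PFun k (LefPen.Form r k d)) :=
  (Matrix.of (Fin.cons (fun p => if p = j then 1 else 0) Rf :
    Fin (r + 1) → Fin (r + 1) → MvPolynomial (Fin (r + 1)) (PFun k (LefPen.Form r k d)))).det

/-- The second derivative of the adjusted form along the vector family. -/
def testFam : MvPolynomial (Fin (r + 1)) (PFun k (LefPen.Form r k d)) :=
  (jacFam g col).det * ((jacFam g col).det * hqW (vecFam Rf) (fam LinearMap.id) -
    ∑ s, ((jacFam (d := d) g col).updateRow s fun t => pderiv (col t) (fam LinearMap.id)).det *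
      hqW (vecFam Rf) (cst (g s)))

theorem eval_spec_pderiv (H : LefPen.Form r k d) (c : Fin (r + 1) → k) (j : Fin (r + 1))
    (p : MvPolynomial (Fin (r + 1)) (PFun k (LefPen.Form r k d))) :
    eval c (spec H (pderiv j p)) = grad c (spec H p) j := by
  rw [spec, ← pderiv_map, grad_apply]

variable (H : LefPen.Form r k d) (c : Fin (r + 1) → k)

theorem eval_jacFam_det :
    eval c (spec H (jacFam g col).det) = (Matrix.of fun s t => grad c (g s) (col t)).det := by
  rw [eval_spec_det]
  congr 1
  ext s t
  simp only [jacFam, Matrix.of_apply, eval_spec_pderiv, spec_cst]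

theorem eval_testFam_of_det_eq_zero (h : (Matrix.of fun s t => grad c (g s) (col t)).det = 0) :
    eval c (spec H (testFam g col Rf)) = 0 := by
  rw [testFam, map_mul, map_mul, eval_jacFam_det, h, zero_mul]

theorem eval_testFam {Rn : Fin r → Fin (r + 1) → k} (hR : ∀ s j, eval c (spec H (Rf s j)) = Rn s j) {l : Fin m → k}
    (hl : grad c H.1 = ∑ s, l s • grad c (g s)) :
    eval c (spec H (testFam g col Rf)) = (Matrix.of fun s t => grad c (g s) (col t)).det *
      ((Matrix.of fun s t => grad c (g s) (col t)).det * hq c (cross Rn) (H.1 - ∑ s, C (l s) * g s)) := by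
  set A : Matrix (Fin m) (Fin m) k := Matrix.of fun s t => grad c (g s) (col t) with hA
  have hW : (fun j => eval c (spec H (vecFam Rf j))) = cross Rn := by
    funext j
    rw [vecFam, eval_spec_det]
    simp only [cross]
    congr 1
    ext s p
    refine Fin.cases ?_ (fun s => ?_) s
    · simp only [Matrix.of_apply, Fin.cons_zero]
      split_ifs <;> simp
    · simp only [Matrix.of_apply, Fin.cons_succ, hR]
  have hhq : ∀ Y, eval c (spec H (hqW (vecFam Rf) Y)) = hq c (cross Rn) (spec H Y) := fun Y => by
    rw [spec, map_hqW, eval_hqW, ← hW]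
    rfl
  have hN : ∀ s, eval c (spec H ((jacFam (d := d) g col).updateRow s fun t => pderiv (col t) (fam LinearMap.id)).det) =
      l s * A.det := fun s => by
    rw [eval_spec_det]
    have he : (Matrix.of fun p q => eval c (spec H
        (((jacFam (d := d) g col).updateRow s fun t => pderiv (col t) (fam LinearMap.id)) p q))) =
        A.updateRow s (∑ q, l q • A q) := by
      ext p q
      by_cases h : p = s
      · subst h
        simp only [Matrix.of_apply, Matrix.updateRow_self, eval_spec_pderiv, spec_fam, LinearMap.id_coe, id_eq]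
        rw [hl]
        simp [Finset.sum_apply, hA]
      · simp only [Matrix.of_apply, Matrix.updateRow_ne h, jacFam, eval_spec_pderiv, spec_cst, hA]
    rw [he, Matrix.det_updateRow_sum, smul_eq_mul]
  simp only [testFam, map_mul, map_sub, map_sum, eval_jacFam_det, hN, hhq, spec_fam, spec_cst, LinearMap.id_coe, id_eq]
  rw [hq_sub_sum, ← hA]
  simp only [mul_sub, Finset.mul_sum]
  congr 1
  exact Finset.sum_congr rfl fun s _ => by ring

end Groth.L05.Nd
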