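import Groth.Agent.L05.Nd.Open
import Groth.Agent.L05.Nd.TestFam

/-! Having a single ordinary quadratic point is open among the non-transversal sections. -/

set_option autoImplicit false
set_option linter.style.haveILetI false
set_option backward.isDefEq.respectTransparency false
set_option backward.isDefEq.respectTransparency.types false
set_option maxHeartbeats 1000000

universe u

open CategoryTheory CategoryTheory.Limits AlgebraicGeometry TopologicalSpace MvPolynomial IsLocalRing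

noncomputable section

namespace Groth.L05.Nd

open Groth.L05.OrdQuad (σ exists_coords exists_mem_secι)
open Groth.L05.DualVar

variable {k : Type u} [Field k] [IsAlgClosed k] {r : ℕ} {X : Scheme.{u}} {i : X ⟶ CohB1.ProjSpace r k}
  [IsClosedImmersion i] [IrreducibleSpace X] [IsReduced X] [IsLocallyNoetherian X]
  {S : Finset (MvPolynomial (Fin (r + 1)) k)} {m n d : ℕ}
  [SmoothOfRelativeDimension n (i ≫ CohB1.ProjSpace.toSpec r k)]
  {H₀ : LefPen.Form r k d} (B : Base i S m n H₀)

omit [IsAlgClosed k] [IsClosedImmersion i] [IrreducibleSpace X] [IsReduced X] [IsLocallyNoetherian X] in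
theorem mem_aff_of_grad {J : Type*} (P₀ : J → MvPolynomial (Fin (r + 1)) k) (a : Fin (r + 1))
    (c : Fin (r + 1) → k) (hca : c a = 1) (hP : ∀ j, eval c (P₀ j) = 0)
    {F : MvPolynomial (Fin (r + 1)) k} (hF : eval c F = 0)
    (h : grad c F ∈ Submodule.span k (Set.range (fun j => grad c (P₀ j)) ∪ {(Pi.single a 1 : Fin (r + 1) → k)})) :
    F ∈ affIdeal P₀ a ⊔ ptIdeal c ^ 2 := by
  obtain ⟨p, ⟨hp, hp0⟩, hpe⟩ : ∃ p, (p ∈ affIdeal P₀ a ∧ eval c p = 0) ∧ grad c p = grad c F := by
    generalize grad c F = v at h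
    induction h using Submodule.span_induction with
    | mem v hv =>
      rcases hv with ⟨j, rfl⟩ | rfl
      · exact ⟨P₀ j, ⟨Ideal.mem_sup_left (Ideal.subset_span ⟨j, rfl⟩), hP j⟩, rfl⟩
      · refine ⟨MvPolynomial.X a - 1, ⟨Ideal.mem_sup_right (Ideal.subset_span rfl), by simp [hca]⟩, ?_⟩
        funext j
        rw [grad_apply, map_sub, pderiv_one, sub_zero]
        by_cases h : j = a
        · rw [h, pderiv_X_self, map_one, Pi.single_eq_same]
        · rw [pderiv_X_of_ne (Ne.symm h), map_zero, Pi.single_eq_of_ne h]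
    | zero => exact ⟨0, ⟨zero_mem _, map_zero _⟩, map_zero _⟩
    | add v v' _ _ hv hv' =>
      obtain ⟨p, ⟨hp, hp0⟩, rfl⟩ := hv
      obtain ⟨p', ⟨hp', hp0'⟩, rfl⟩ := hv'
      exact ⟨p + p', ⟨add_mem hp hp', by rw [map_add, hp0, hp0', add_zero]⟩, map_add _ _ _⟩
    | smul t v _ hv =>
      obtain ⟨p, ⟨hp, hp0⟩, rfl⟩ := hv
      exact ⟨t • p, ⟨by rw [smul_eq_C_mul]; exact Ideal.mul_mem_left _ _ hp,
        by rw [smul_eq_C_mul, map_mul, hp0, mul_zero]⟩, map_smul _ _ _⟩
  rw [show F = p + (F - p) by ring]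
  refine add_mem (Ideal.mem_sup_left hp) (Ideal.mem_sup_right ?_)
  have h2 := taylor_mem_sq c (F - p)
  rw [map_sub, map_sub (grad c), hpe, sub_self, hF, hp0, sub_zero, map_zero] at h2
  simpa using h2

/-- The case of a point of length one. -/
theorem exists_good_reduced (hE : Eqns i S m n) (hn : 1 ≤ n)
    (hK : ∀ w, Rad S m B.a B.c H₀ w → w = 0) :
    ∃ f : LefPen.Form r k d → k, LefPen.IsPolyFun k f ∧ f H₀ ≠ 0 ∧ ∀ H, f H ≠ 0 →
      ∀ (b : Fin (r + 1)) (x : X) (hxb : i x ∈ LefPen.chart r k b), IsClosed ({x} : Set X) →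
        σ i b x hxb H.1 ∈ maximalIdeal (X.presheaf.stalk x) ^ 2 → LefPen.OneOrdQuad k n i H := by
  classical
  obtain ⟨E, δ, f₁, hE2, hf₁, hf₁0, hlen⟩ := exists_length B hE (ℓ := 0) (Fin.elim0) (fun s => s.elim0) (fun s => s.elim0)
    (fun v => Submodule.span_mono Set.subset_union_left (mem_span_of_dot fun w hw => by
      rw [hK w (rad_of_orth hw)]; simp))
    (fun s => s.elim0)
  obtain ⟨f₂, hf₂, hf₂0, hnear⟩ := exists_near B hE 1 (by rw [map_one, map_one]; exact one_ne_zero)
  refine ⟨fun H => f₁ H * f₂ H, Subalgebra.mul_mem _ hf₁ hf₂, mul_ne_zero hf₁0 hf₂0, fun H hH b x hxb hx hsq => ?_⟩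
  rw [mul_ne_zero_iff] at hH
  obtain ⟨hxa, c, hc, hsqa, -⟩ := hnear H hH.2 b x hxb hx hsq
  obtain ⟨g, hg, hli, -⟩ := exists_frame hE hc hx
  obtain ⟨l, -, -, -, hord, hne, -, -⟩ := point_data hE hn hc hx hsqa hg hli
  have hP := tanEq_zero_of_tangent hE hc hx hsqa
  have hnd : NDAt S m B.a c H (H.1 - ∑ s, C (l s) * g s) := by
    intro w hw _
    by_contra hw0
    obtain ⟨t, ht0, ht⟩ := hlen H hH.1 ![evL c, dirL c w] (fun s => by
      fin_cases s
      · exact evL_prods δ _ hP
      · exact dirL_prods δ _ hP (rad_kills hw))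
    obtain ⟨h0, h1⟩ := dir_indep (by omega : 1 ≤ E) (coord_self hc) hw.1 (t 0) (t 1) fun G hG => by
      have := ht G hG
      simpa [Fin.sum_univ_two] using this
    obtain ⟨p, hp⟩ := Function.ne_iff.1 hw0
    exact ht0 (funext fun s => by
      fin_cases s
      · exact h0
      · exact (mul_eq_zero.1 (h1 p)).resolve_right hp)
  obtain ⟨y, hy⟩ := exists_mem_secι i B.a x hxa H (Ideal.pow_le_self two_ne_zero hsqa)
  have huniq : ∀ (b' : Fin (r + 1)) (z : X) (hzb : i z ∈ LefPen.chart r k b'), IsClosed ({z} : Set X) →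
      σ i b' z hzb H.1 ∈ maximalIdeal (X.presheaf.stalk z) ^ 2 → z = x := by
    intro b' z hzb hz hzsq
    obtain ⟨hza, e, he, hzsqa, -⟩ := hnear H hH.2 b' z hzb hz hzsq
    by_contra hne'
    obtain ⟨t, ht0, ht⟩ := hlen H hH.1 ![evL c, evL e] (fun s => by
      fin_cases s
      · exact evL_prods δ _ hP
      · exact evL_prods δ _ (tanEq_zero_of_tangent hE he hz hzsqa))
    obtain ⟨h0, h1⟩ := pt_indep (by omega : 1 ≤ E) (coord_self hc) (coord_self he)
      (fun h => hne' (eq_of_coord (h ▸ he) hc)) (t 0) (t 1) fun G hG => by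
      have := ht G hG
      simpa [Fin.sum_univ_two] using this
    exact ht0 (funext fun s => by fin_cases s <;> assumption)
  subst hy
  exact oneOrdQuad_of_unique (n := n) hn y ((hord y rfl).2 hnd) hxa hsqa (hne hnd) huniq

/-- The case of a point of length two. -/
theorem exists_good_double (hE : Eqns i S m n) (hn : 1 ≤ n) {w₀ : Fin (r + 1) → k}
    (hw₀ : Rad S m B.a B.c H₀ w₀) (hw0 : w₀ ≠ 0) :
    ∃ f : LefPen.Form r k d → k, LefPen.IsPolyFun k f ∧ f H₀ ≠ 0 ∧ ∀ H, f H ≠ 0 →
      ∀ (b : Fin (r + 1)) (x : X) (hxb : i x ∈ LefPen.chart r k b), IsClosed ({x} : Set X) →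
        σ i b x hxb H.1 ∈ maximalIdeal (X.presheaf.stalk x) ^ 2 → LefPen.OneOrdQuad k n i H := by
  classical
  obtain ⟨h2, hodd⟩ := B.parity w₀ hw₀ hw0
  obtain ⟨q, hwq0⟩ := Function.ne_iff.1 hw0
  let u : MvPolynomial (Fin (r + 1)) k := C (w₀ q)⁻¹ * lf B.c B.a q
  have hu0 : eval B.c u = 0 := by simp [u, lf, coord_self B.hc]
  have hudot : ∑ j, grad B.c u j * w₀ j = 1 := by
    rw [show u = (w₀ q)⁻¹ • lf B.c B.a q from (smul_eq_C_mul _ _).symm, map_smul]
    simp only [Pi.smul_apply, smul_eq_mul, mul_assoc, ← Finset.mul_sum, grad_lf _ _ _ hw₀.1]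
    exact inv_mul_cancel₀ hwq0
  set ΓS := Set.range (fun j => grad B.c (tanEq S m d j H₀)) ∪ {(Pi.single B.a 1 : Fin (r + 1) → k)}
  have hT1 : ∀ v : Fin (r + 1) → k, ∑ j, v j * w₀ j = 0 → v ∈ Submodule.span k ΓS := fun v hv =>
    mem_span_of_dot fun w hw => by
      obtain ⟨t, rfl⟩ := rad_line B hE hw₀ hw0 (rad_of_orth hw)
      simp only [Pi.smul_apply, smul_eq_mul, mul_left_comm _ t, ← Finset.mul_sum, hv, mul_zero]
  have hperp : ∀ v ∈ Submodule.span k ΓS, ∑ j, v j * w₀ j = 0 := by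
    intro v hv
    induction hv using Submodule.span_induction with
    | mem v hv =>
      rcases hv with ⟨j, rfl⟩ | rfl
      · exact rad_kills hw₀ j
      · rw [Fintype.sum_eq_single B.a (fun p hp => by rw [Pi.single_eq_of_ne hp, zero_mul]), Pi.single_eq_same, one_mul]
        exact hw₀.1
    | zero => simp
    | add v v' _ _ h h' => simp [add_mul, Finset.sum_add_distrib, h, h']
    | smul s v _ h => simp only [Pi.smul_apply, smul_eq_mul, mul_assoc, ← Finset.mul_sum, h, mul_zero]
  have hgrad : ∀ v, v ∈ Submodule.span k (ΓS ∪ Set.range fun s => grad B.c (![u] s)) := by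
    intro v
    rw [show v = (v - (∑ j, v j * w₀ j) • grad B.c u) + (∑ j, v j * w₀ j) • grad B.c u by abel]
    refine add_mem (Submodule.span_mono Set.subset_union_left (hT1 _ ?_))
      (Submodule.smul_mem _ _ (Submodule.subset_span (Or.inr ⟨0, rfl⟩)))
    simp only [Pi.sub_apply, Pi.smul_apply, smul_eq_mul, sub_mul, Finset.sum_sub_distrib, mul_assoc, ← Finset.mul_sum,
      hudot, mul_one, sub_self]
  set G₀ := H₀.1 - ∑ s, C (B.l s) * B.g s
  have hq₀ : hq B.c w₀ G₀ ≠ 0 := fun h => hw0 (B.nd w₀ hw₀ h)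
  have hsq : u * u ∈ affIdeal (fun j => tanEq S m d j H₀) B.a ⊔ ptIdeal B.c ^ 3 := by
    have hx : ∀ j, (MvPolynomial.X j - C (B.c j)) - C (w₀ j) * u ∈
        affIdeal (fun j => tanEq S m d j H₀) B.a ⊔ ptIdeal B.c ^ 2 := by
      intro j
      refine mem_aff_of_grad _ _ _ (coord_self B.hc) (tanEq_zero_of_tangent hE B.hc B.hx B.hH) (by simp [hu0]) (hT1 _ ?_)
      have hj : grad B.c ((MvPolynomial.X j - C (B.c j)) - C (w₀ j) * u) =
          (Pi.single j 1 : Fin (r + 1) → k) - w₀ j • grad B.c u := by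
        rw [map_sub, ← smul_eq_C_mul, map_smul]
        congr 1
        funext p
        rw [grad_apply, map_sub, pderiv_C, sub_zero]
        by_cases h : p = j
        · rw [h, pderiv_X_self, map_one, Pi.single_eq_same]
        · rw [pderiv_X_of_ne (Ne.symm h), map_zero, Pi.single_eq_of_ne h]
      rw [hj]
      simp only [Pi.sub_apply, Pi.smul_apply, smul_eq_mul, sub_mul, Finset.sum_sub_distrib, mul_assoc, ← Finset.mul_sum,
        hudot, mul_one]
      rw [Fintype.sum_eq_single j (fun p hp => by rw [Pi.single_eq_of_ne hp, zero_mul]), Pi.single_eq_same, one_mul,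
        sub_self]
    have hexp := sq_expansion B.c w₀ hu0 hx G₀
    rw [B.hG0, B.hG, map_zero, sub_zero] at hexp
    simp only [Pi.zero_apply, map_zero, zero_mul, Finset.sum_const_zero, sub_zero] at hexp
    have hGI : G₀ ∈ affIdeal (fun j => tanEq S m d j H₀) B.a := by
      refine Ideal.mem_sup_left (sub_mem ?_ (Submodule.sum_mem _ fun s _ => Ideal.mul_mem_left _ _ ?_))
      · exact Ideal.subset_span ⟨Sum.inr (Sum.inl ()), tanEq_inr H₀ _⟩
      · exact Ideal.subset_span ⟨Sum.inl ⟨B.g s, B.hg s⟩, tanEq_inl H₀ _⟩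
    have h := sub_mem (Ideal.mem_sup_left hGI : G₀ ∈ affIdeal (fun j => tanEq S m d j H₀) B.a ⊔ ptIdeal B.c ^ 3) hexp
    rw [sub_sub_cancel] at h
    rw [← pow_two]
    exact (Ideal.unit_mul_mem_iff_mem _ ((Ne.isUnit hq₀).map (C : k →+* MvPolynomial (Fin (r + 1)) k))).1 h
  obtain ⟨E, δ, f₁, hE2, hf₁, hf₁0, hlen⟩ := exists_length B hE ![u]
    (fun s => by fin_cases s; exact (lf_hom B.c B.a q).C_mul _) (fun s => by fin_cases s; exact hu0) hgrad
    (fun s t => by fin_cases s; fin_cases t; exact hsq)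
  -- the frame and the distinguished rows
  obtain ⟨col, hcol⟩ := exists_minor _ B.hli
  let γ : Option (↥S ⊕ LinIdx S m) → Fin (r + 1) → k := fun o =>
    o.elim (Pi.single B.a 1) fun j => grad B.c (tanEq S m d j H₀)
  have hγ : Set.range γ = ΓS := by
    ext v
    constructor
    · rintro ⟨_ | j, rfl⟩
      · exact Or.inr rfl
      · exact Or.inl ⟨j, rfl⟩
    · rintro (⟨j, rfl⟩ | rfl)
      · exact ⟨some j, rfl⟩
      · exact ⟨none, rfl⟩
  have hrk : Module.finrank k ↥(Submodule.span k (Set.range γ)) = r := by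
    let D : (Fin (r + 1) → k) →ₗ[k] k := ∑ j, w₀ j • LinearMap.proj j
    have hD : ∀ v, D v = ∑ j, v j * w₀ j := fun v => by simp [D, mul_comm]
    have hker : LinearMap.ker D = Submodule.span k (Set.range γ) := by
      ext v
      rw [LinearMap.mem_ker, hD, hγ]
      exact ⟨hT1 v, hperp v⟩
    have hsurj : Function.Surjective D := fun t => ⟨t • grad B.c u, by rw [map_smul, hD, hudot, smul_eq_mul, mul_one]⟩
    have := D.finrank_range_add_finrank_ker
    rw [LinearMap.range_eq_top.2 hsurj, finrank_top, Module.finrank_self, Module.finrank_fin_fun, hker] at this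
    omega
  obtain ⟨v, hv, hvspan, hvli⟩ := Submodule.exists_fun_fin_finrank_span_eq k (Set.range γ)
  choose ρ hρ using fun s => hv (Fin.cast hrk.symm s)
  -- the families
  let Rf : Fin r → Fin (r + 1) → MvPolynomial (Fin (r + 1)) (PFun k (LefPen.Form r k d)) := fun s j =>
    (ρ s).elim (if j = B.a then 1 else 0) fun o => pderiv j (tanFam S m d o)
  let Rn : LefPen.Form r k d → (Fin (r + 1) → k) → Fin r → Fin (r + 1) → k := fun H c s =>
    (ρ s).elim (Pi.single B.a 1) fun o => grad c (tanEq S m d o H)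
  let An : (Fin (r + 1) → k) → Matrix (Fin m) (Fin m) k := fun c => Matrix.of fun s t => grad c (B.g s) (col t)
  have hR : ∀ (H : LefPen.Form r k d) (c : Fin (r + 1) → k) (s : Fin r) (j : Fin (r + 1)),
      eval c (spec H (Rf s j)) = Rn H c s j := fun H c s j => by
    simp only [Rf, Rn]
    cases ρ s with
    | none =>
      simp only [Option.elim, Pi.single_apply]
      split_ifs <;> simp
    | some o => simp only [Option.elim, eval_spec_pderiv]; rfl
  let pf := testFam (d := d) B.g col Rf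
  have hpf : ∀ (H : LefPen.Form r k d) (c : Fin (r + 1) → k) (l : Fin m → k),
      grad c H.1 = ∑ s, l s • grad c (B.g s) → eval c (spec H pf) =
        (An c).det * ((An c).det * hq c (cross (Rn H c)) (H.1 - ∑ s, C (l s) * B.g s)) :=
    fun H c l hl => eval_testFam B.g col Rf H c (hR H c) hl
  have hp₀ : eval B.c (spec H₀ pf) ≠ 0 := by
    rw [hpf H₀ B.c B.l B.hl]
    have hrows : Rn H₀ B.c = v ∘ Fin.cast hrk.symm := by
      funext s
      rw [Function.comp_apply, ← hρ s]
    have hcross : cross (Rn H₀ B.c) ≠ 0 := by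
      refine cross_ne_zero (v := grad B.c u) (by rw [hrows]; exact hvli.comp _ (Fin.cast_injective _)) fun h => ?_
      have h1 : grad B.c u ∈ Submodule.span k ΓS := by
        refine Submodule.span_le.2 ?_ h
        rintro _ ⟨s, rfl⟩
        rw [hrows, ← hγ, Function.comp_apply, ← hρ s]
        exact Submodule.subset_span ⟨ρ s, rfl⟩
      have := hperp _ h1
      rw [hudot] at this
      exact one_ne_zero this
    refine mul_ne_zero hcol (mul_ne_zero hcol fun h => hcross (B.nd _ (rad_of_orth fun η hη => ?_) h))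
    have hη' : η ∈ Submodule.span k (Set.range v) := by
      rw [hvspan, hγ]
      exact Submodule.subset_span hη
    clear hη
    induction hη' using Submodule.span_induction with
    | mem η hη =>
      obtain ⟨s, rfl⟩ := hη
      have := row_dot_cross (Rn H₀ B.c) (Fin.cast hrk s)
      rw [show Rn H₀ B.c (Fin.cast hrk s) = v s by rw [hrows]; simp] at this
      exact this
    | zero => simp
    | add p p' hp hp' h h' => simp [add_mul, Finset.sum_add_distrib, h, h']
    | smul s p hp h => simp only [Pi.smul_apply, smul_eq_mul, mul_assoc, ← Finset.mul_sum, h, mul_zero]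
  obtain ⟨f₂, hf₂, hf₂0, hnear⟩ := exists_near B hE pf hp₀
  refine ⟨fun H => f₁ H * f₂ H, Subalgebra.mul_mem _ hf₁ hf₂, mul_ne_zero hf₁0 hf₂0, fun H hH b x hxb hx hsq => ?_⟩
  rw [mul_ne_zero_iff] at hH
  have hdata : ∀ (z : X) (hza : i z ∈ LefPen.chart r k B.a) (c : Fin (r + 1) → k), IsCoord i B.a z hza c →
      IsClosed ({z} : Set X) → σ i B.a z hza H.1 ∈ maximalIdeal (X.presheaf.stalk z) ^ 2 → eval c (spec H pf) ≠ 0 →
      σ i B.a z hza H.1 ≠ 0 ∧ (∃ w, Rad S m B.a c H w ∧ w ≠ 0) ∧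
        ∀ y : LefPen.Sec i ({H} : Set (LefPen.Form r k d)), LefPen.secι i ({H} : Set (LefPen.Form r k d)) y = z →
          LefPen.IsOrdQuadSing k (n - 1) (LefPen.secToSpec i ({H} : Set (LefPen.Form r k d))) y := by
    intro z hza c hc hz hzsq hp
    obtain ⟨g', hg', -, hspan'⟩ := exists_frame hE hc hz
    have hgS : grad c H.1 ∈ Submodule.span k (grad c '' (S : Set (MvPolynomial (Fin (r + 1)) k))) :=
      ((σ_form_mem_sq_iff hc hE.sub hE.gen H).1 hzsq).2
    have hD : (An c).det ≠ 0 := by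
      intro hD
      exact hp (eval_testFam_of_det_eq_zero B.g col Rf H c hD)
    have hli : LinearIndependent k (fun s => grad c (B.g s)) := LinearIndependent.of_comp (LinearMap.funLeft k k col)
      (Matrix.linearIndependent_rows_iff_isUnit.2 ((Matrix.isUnit_iff_isUnit_det _).2 (Ne.isUnit hD)))
    obtain ⟨l, hl, -, -, hord, hne, -, hex⟩ := point_data hE hn hc hz hzsq B.hg hli
    rw [hpf H c l hl, mul_ne_zero_iff, mul_ne_zero_iff] at hp
    have hwne : cross (Rn H c) ≠ 0 := fun h => hp.2.2 (by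
      rw [h, show (0 : Fin (r + 1) → k) = (0 : k) • cross (Rn H c) from (zero_smul _ _).symm, hq_smul]
      ring)
    have hnd : NDAt S m B.a c H (H.1 - ∑ s, C (l s) * B.g s) := by
      intro w hw hwq
      obtain ⟨t, rfl⟩ := eq_smul_cross hwne (z := w) fun s => by
        show ∑ j, (ρ s).elim (Pi.single B.a 1) (fun o => grad c (tanEq S m d o H)) j * w j = 0
        cases ρ s with
        | none =>
          simp only [Option.elim]
          rw [Fintype.sum_eq_single B.a (fun p hp => by rw [Pi.single_eq_of_ne hp, zero_mul]), Pi.single_eq_same,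
            one_mul]
          exact hw.1
        | some o => exact rad_kills hw o
      rw [hq_smul, mul_eq_zero] at hwq
      rw [eq_zero_of_pow_eq_zero (hwq.resolve_right hp.2.2), zero_smul]
    exact ⟨hne hnd, hex h2 hodd, fun y hy => (hord y hy).2 hnd⟩
  obtain ⟨hxa, c, hc, hsqa, hpx⟩ := hnear H hH.2 b x hxb hx hsq
  obtain ⟨hne, ⟨w, hw, hwne⟩, hord⟩ := hdata x hxa c hc hx hsqa hpx
  obtain ⟨y, hy⟩ := exists_mem_secι i B.a x hxa H (Ideal.pow_le_self two_ne_zero hsqa)
  have huniq : ∀ (b' : Fin (r + 1)) (z : X) (hzb : i z ∈ LefPen.chart r k b'), IsClosed ({z} : Set X) →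
      σ i b' z hzb H.1 ∈ maximalIdeal (X.presheaf.stalk z) ^ 2 → z = x := by
    intro b' z hzb hz hzsq
    obtain ⟨hza, e, he, hzsqa, -⟩ := hnear H hH.2 b' z hzb hz hzsq
    by_contra hne'
    have hP := tanEq_zero_of_tangent hE hc hx hsqa
    obtain ⟨t, ht0, ht⟩ := hlen H hH.1 ![evL c, dirL c w, evL e] (fun s => by
      fin_cases s
      · exact evL_prods δ _ hP
      · exact dirL_prods δ _ hP (rad_kills hw)
      · exact evL_prods δ _ (tanEq_zero_of_tangent hE he hz hzsqa))
    obtain ⟨h0, h1, h3⟩ := pt_dir_indep hE2 (coord_self hc) (coord_self he)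
      (fun h => hne' (eq_of_coord (h ▸ he) hc)) hw.1 hwne (t 0) (t 1) (t 2) fun G hG => by
      have := ht G hG
      simpa [Fin.sum_univ_three] using this
    exact ht0 (funext fun s => by fin_cases s <;> assumption)
  subst hy
  exact oneOrdQuad_of_unique (n := n) hn y (hord y rfl) hxa hsqa hne huniq

/-- Having one ordinary quadratic point is open in the forms cutting non-transversally. -/
theorem relOpen_oneOrdQuad (hE : Eqns i S m n) (hn : 1 ≤ n) {H₀ : LefPen.Form r k d}
    (h₀ : LefPen.OneOrdQuad k n i H₀) :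
    ∃ f : LefPen.Form r k d → k, LefPen.IsPolyFun k f ∧ f H₀ ≠ 0 ∧
      ∀ H : LefPen.Form r k d, ¬ LefPen.Transversal k n 1 (LefPen.secToSpec i ({H} : Set (LefPen.Form r k d))) →
        f H ≠ 0 → LefPen.OneOrdQuad k n i H := by
  obtain ⟨B⟩ := exists_base hE hn h₀
  obtain ⟨f, hf, hf0, hH⟩ : ∃ f : LefPen.Form r k d → k, LefPen.IsPolyFun k f ∧ f H₀ ≠ 0 ∧ ∀ H, f H ≠ 0 →
      ∀ (b : Fin (r + 1)) (x : X) (hxb : i x ∈ LefPen.chart r k b), IsClosed ({x} : Set X) →
        σ i b x hxb H.1 ∈ maximalIdeal (X.presheaf.stalk x) ^ 2 → LefPen.OneOrdQuad k n i H := by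
    by_cases hK : ∀ w, Rad S m B.a B.c H₀ w → w = 0
    · exact exists_good_reduced B hE hn hK
    · push Not at hK
      obtain ⟨w, hw, hw0⟩ := hK
      exact exists_good_double B hE hn hw hw0
  refine ⟨f, hf, hf0, fun H hT hfH => ?_⟩
  rw [transversal_iff i n hn] at hT
  push Not at hT
  obtain ⟨b, x, hxb, hx, hsq⟩ := hT
  exact hH H hfH b x hxb hx hsq

end Groth.L05.Nd
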