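import Groth.Agent.L05.Nd.Span

/-! Functionals attached to points and tangent vectors. -/

set_option autoImplicit false
set_option linter.style.haveILetI false

universe u

open MvPolynomial

noncomputable section

namespace Groth.L05.Nd

open Groth.L14.Fano (Mon)
open Groth.L05.DualVar (grad grad_apply grad_mul)

variable {k : Type u} [Field k] {r : ℕ}

/-- Evaluation as a linear map. -/
def evL (c : Fin (r + 1) → k) : MvPolynomial (Fin (r + 1)) k →ₗ[k] k := (aeval c).toLinearMap

theorem evL_apply (c : Fin (r + 1) → k) (G : MvPolynomial (Fin (r + 1)) k) : evL c G = eval c G := by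
  simp [evL, aeval_eq_eval]

/-- The directional derivative as a linear map. -/
def dirL (c w : Fin (r + 1) → k) : MvPolynomial (Fin (r + 1)) k →ₗ[k] k :=
  (∑ j, w j • LinearMap.proj j) ∘ₗ grad c

theorem dirL_apply (c w : Fin (r + 1) → k) (G : MvPolynomial (Fin (r + 1)) k) :
    dirL c w G = ∑ j, grad c G j * w j := by
  simp [dirL, mul_comm]

variable {J : Type*} {V : Type u} (δ : J → ℕ) (P : J → V → MvPolynomial (Fin (r + 1)) k) {E : ℕ} {H : V}

theorem evL_prods {c : Fin (r + 1) → k} (h : ∀ j, eval c (P j H) = 0) :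
    ∀ F ∈ prods δ P E H, evL c F = 0 := by
  rintro F ⟨j, ν, -, rfl⟩
  rw [evL_apply, map_mul, h, mul_zero]

theorem dirL_prods {c w : Fin (r + 1) → k} (h : ∀ j, eval c (P j H) = 0)
    (hw : ∀ j, ∑ l, grad c (P j H) l * w l = 0) : ∀ F ∈ prods δ P E H, dirL c w F = 0 := by
  rintro F ⟨j, ν, -, rfl⟩
  rw [dirL_apply, grad_mul, h, zero_smul, zero_add]
  simp only [Pi.smul_apply, smul_eq_mul, mul_assoc, ← Finset.mul_sum, hw, mul_zero]

variable {c e w : Fin (r + 1) → k} {a : Fin (r + 1)}

/-- A homogenised affine coordinate. -/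
def lf (c : Fin (r + 1) → k) (a p : Fin (r + 1)) : MvPolynomial (Fin (r + 1)) k :=
  MvPolynomial.X p - C (c p) * MvPolynomial.X a

theorem lf_hom (c : Fin (r + 1) → k) (a p : Fin (r + 1)) : (lf c a p).IsHomogeneous 1 :=
  (isHomogeneous_X k p).sub (isHomogeneous_C_mul_X _ _)

theorem grad_lf (c : Fin (r + 1) → k) (a p : Fin (r + 1)) (hw : w a = 0) :
    ∑ j, grad c (lf c a p) j * w j = w p := by
  classical
  have hX : ∀ q j, eval c (pderiv j (MvPolynomial.X q : MvPolynomial (Fin (r + 1)) k)) = if j = q then 1 else 0 := by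
    intro q j
    by_cases h : j = q
    · rw [h, pderiv_X_self, map_one, if_pos rfl]
    · rw [pderiv_X_of_ne (Ne.symm h), map_zero, if_neg h]
  have h : ∀ j, grad c (lf c a p) j = (if j = p then 1 else 0) - c p * (if j = a then 1 else 0) := by
    intro j
    rw [grad_apply, lf, map_sub, pderiv_C_mul, map_sub, map_mul, eval_C, hX, hX]
  simp [h, sub_mul, Finset.sum_sub_distrib, hw]

/-- Test forms separate a tangent vector from its base point. -/
theorem dir_indep (hE : 1 ≤ E) (hca : c a = 1) (hwa : w a = 0) (s t : k)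
    (h : ∀ G : MvPolynomial (Fin (r + 1)) k, G.IsHomogeneous E → s * evL c G + t * dirL c w G = 0) :
    s = 0 ∧ ∀ p, t * w p = 0 := by
  have hXa : (MvPolynomial.X a : MvPolynomial (Fin (r + 1)) k).IsHomogeneous 1 := isHomogeneous_X k a
  have ht : ∀ p, t * w p = 0 := by
    intro p
    have hG : (MvPolynomial.X a ^ (E - 1) * lf c a p).IsHomogeneous E := by
      have h1 := (hXa.pow (E - 1)).mul (lf_hom c a p)
      rwa [show 1 * (E - 1) + 1 = E by omega] at h1
    have h1 := h _ hG
    rw [evL_apply, dirL_apply, grad_mul, map_mul, show eval c (lf c a p) = 0 by simp [lf, hca],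
      show eval c (MvPolynomial.X a ^ (E - 1)) = 1 by simp [hca], zero_smul, one_smul, zero_add, mul_zero, mul_zero,
      zero_add, grad_lf c a p hwa] at h1
    exact h1
  refine ⟨?_, ht⟩
  have hG : (MvPolynomial.X a ^ E : MvPolynomial (Fin (r + 1)) k).IsHomogeneous E := by
    simpa using hXa.pow E
  have h1 := h _ hG
  rw [evL_apply, dirL_apply] at h1
  simp only [map_pow, eval_X, hca, one_pow, mul_one] at h1
  rw [show t * ∑ j, grad c (MvPolynomial.X a ^ E) j * w j = 0 by
    rw [Finset.mul_sum]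
    refine Finset.sum_eq_zero fun j _ => ?_
    rw [mul_left_comm, ht j, mul_zero], add_zero] at h1
  exact h1

/-- Two distinct points are separated. -/
theorem pt_indep (hE : 1 ≤ E) (hca : c a = 1) (hea : e a = 1) (hce : c ≠ e) (s t : k)
    (h : ∀ G : MvPolynomial (Fin (r + 1)) k, G.IsHomogeneous E → s * evL c G + t * evL e G = 0) : s = 0 ∧ t = 0 := by
  obtain ⟨p, hp⟩ := Function.ne_iff.1 hce
  have hG : (MvPolynomial.X a ^ (E - 1) * lf c a p).IsHomogeneous E := by
    have h1 := ((isHomogeneous_X k a).pow (E - 1)).mul (lf_hom c a p)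
    rwa [show 1 * (E - 1) + 1 = E by omega] at h1
  have h1 := h _ hG
  simp only [evL_apply, map_mul, map_pow, eval_X, hca, hea, one_pow, one_mul, lf, map_sub, eval_C, mul_one,
    sub_self, mul_zero, zero_add, mul_eq_zero, sub_eq_zero] at h1
  have ht := h1.resolve_right (Ne.symm hp)
  have h2 := h _ (show (MvPolynomial.X a ^ E : MvPolynomial (Fin (r + 1)) k).IsHomogeneous E by
    simpa using (isHomogeneous_X k a).pow E)
  simp only [evL_apply, map_pow, eval_X, hca, hea, one_pow, mul_one, ht, add_zero] at h2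
  exact ⟨h2, ht⟩

/-- A point with a tangent vector and another point are separated. -/
theorem pt_dir_indep (hE : 2 ≤ E) (hca : c a = 1) (hea : e a = 1) (hce : c ≠ e) (hwa : w a = 0) (hw : w ≠ 0)
    (s t u : k) (h : ∀ G : MvPolynomial (Fin (r + 1)) k, G.IsHomogeneous E →
      s * evL c G + t * dirL c w G + u * evL e G = 0) : s = 0 ∧ t = 0 ∧ u = 0 := by
  obtain ⟨p, hp⟩ := Function.ne_iff.1 hce
  have hG : (MvPolynomial.X a ^ (E - 2) * lf c a p ^ 2).IsHomogeneous E := by
    have h1 := ((isHomogeneous_X k a).pow (E - 2)).mul ((lf_hom c a p).pow 2)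
    rwa [show 1 * (E - 2) + 1 * 2 = E by omega] at h1
  have h1 := h _ hG
  have hl : eval c (lf c a p) = 0 := by simp [lf, hca]
  have hgl : grad c (lf c a p ^ 2) = 0 := by rw [pow_two, grad_mul, hl, zero_smul, add_zero]
  have hgG : grad c (MvPolynomial.X a ^ (E - 2) * lf c a p ^ 2) = 0 := by
    rw [grad_mul, hgl, smul_zero, add_zero, map_pow (eval c) (lf c a p), hl, zero_pow two_ne_zero, zero_smul]
  have hcG : eval c (MvPolynomial.X a ^ (E - 2) * lf c a p ^ 2) = 0 := by
    rw [map_mul, map_pow (eval c) (lf c a p), hl, zero_pow two_ne_zero, mul_zero]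
  rw [dirL_apply, evL_apply, evL_apply, hgG, hcG] at h1
  simp only [Pi.zero_apply, zero_mul, Finset.sum_const_zero, mul_zero, zero_add, map_mul, map_pow, eval_X, hea,
    one_pow, one_mul, lf, map_sub, eval_C, mul_one, mul_eq_zero, pow_eq_zero_iff two_ne_zero, sub_eq_zero] at h1
  have hu := h1.resolve_right (Ne.symm hp)
  obtain ⟨hs, ht⟩ := dir_indep (by omega : 1 ≤ E) hca hwa s t fun G hG => by simpa [hu] using h G hG
  obtain ⟨q, hq⟩ := Function.ne_iff.1 hw
  exact ⟨hs, (mul_eq_zero.1 (ht q)).resolve_right hq, hu⟩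

/-- Two tangent vectors at a point are separated up to proportionality. -/
theorem dir_dir_indep {w' : Fin (r + 1) → k} (hE : 1 ≤ E) (hca : c a = 1) (hwa : w a = 0) (hwa' : w' a = 0)
    (s t u : k) (h : ∀ G : MvPolynomial (Fin (r + 1)) k, G.IsHomogeneous E →
      s * evL c G + t * dirL c w G + u * dirL c w' G = 0) : s = 0 ∧ ∀ p, t * w p + u * w' p = 0 := by
  have hlin : ∀ G, t * dirL c w G + u * dirL c w' G = dirL c (t • w + u • w') G := fun G => by
    simp only [dirL_apply, Finset.mul_sum, ← Finset.sum_add_distrib, Pi.add_apply, Pi.smul_apply, smul_eq_mul]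
    exact Finset.sum_congr rfl fun j _ => by ring
  obtain ⟨hs, ht⟩ := dir_indep (w := t • w + u • w') hE hca (by simp [hwa, hwa']) s 1 fun G hG => by
    rw [one_mul, ← hlin, ← add_assoc]
    exact h G hG
  exact ⟨hs, fun p => by simpa using ht p⟩

end Groth.L05.Nd
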