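import Groth.Agent.L05.Nd.Point
import Groth.Agent.L05.Nd.Separate
import Groth.Agent.L05.Nd.LinAlg
import Groth.Agent.L05.DualVar.Final

/-! Having a single ordinary quadratic point is open among the non-transversal sections. -/

set_option autoImplicit false
set_option linter.style.haveILetI false
set_option backward.isDefEq.respectTransparency false
set_option backward.isDefEq.respectTransparency.types false
set_option maxHeartbeats 1000000

universe u

open CategoryTheory CategoryTheory.Limits AlgebraicGeometry TopologicalSpace MvPolynomial IsLocalRing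

noncomputable section

namespace Groth.L05.Nd

open Groth.L05.OrdQuad (σ exists_coords exists_mem_secι)
open Groth.L05.DualVar

variable {k : Type u} [Field k] [IsAlgClosed k] {r : ℕ} {X : Scheme.{u}} {i : X ⟶ CohB1.ProjSpace r k}
  [IsClosedImmersion i] [IrreducibleSpace X] [IsReduced X] [IsLocallyNoetherian X]
  {S : Finset (MvPolynomial (Fin (r + 1)) k)} {m n d : ℕ}
  [SmoothOfRelativeDimension n (i ≫ CohB1.ProjSpace.toSpec r k)]

/-- A unique tangency point with non-degenerate second derivative. -/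
theorem oneOrdQuad_of_unique (hn : 1 ≤ n) {H : LefPen.Form r k d}
    (y : LefPen.Sec i ({H} : Set (LefPen.Form r k d)))
    (hy : LefPen.IsOrdQuadSing k (n - 1) (LefPen.secToSpec i ({H} : Set (LefPen.Form r k d))) y)
    {a : Fin (r + 1)} (hxa : i (LefPen.secι i ({H} : Set (LefPen.Form r k d)) y) ∈ LefPen.chart r k a)
    (hsq : σ i a _ hxa H.1 ∈ maximalIdeal (X.presheaf.stalk (LefPen.secι i ({H} : Set (LefPen.Form r k d)) y)) ^ 2)
    (hne : σ i a _ hxa H.1 ≠ 0)
    (huniq : ∀ (b : Fin (r + 1)) (z : X) (hzb : i z ∈ LefPen.chart r k b), IsClosed ({z} : Set X) →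
      σ i b z hzb H.1 ∈ maximalIdeal (X.presheaf.stalk z) ^ 2 → z = LefPen.secι i ({H} : Set (LefPen.Form r k d)) y) :
    LefPen.OneOrdQuad k n i H := by
  set g := LefPen.secToSpec i ({H} : Set (LefPen.Form r k d))
  set ι' := LefPen.secι i ({H} : Set (LefPen.Form r k d))
  have hyc : IsClosed ({y} : Set _) := hy.1
  have hxc : IsClosed ({ι' y} : Set X) := by
    simpa [Set.image_singleton] using ι'.isClosedEmbedding.isClosedMap _ hyc
  haveI : LocallyOfFinitePresentation g := Groth.L05.SmoothCrit.lfp_of_noetherian g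
  haveI : JacobsonSpace (LefPen.Sec i ({H} : Set (LefPen.Form r k d))) := LocallyOfFiniteType.jacobsonSpace g
  refine ⟨y, ?_, hy⟩
  ext z
  constructor
  · rintro hz (rfl : z = y)
    exact ((smoothAt_sec_iff (n := n) H hxc z rfl (hxa := hxa)).1 hz).elim (fun h => h hsq) hne
  · intro hzy
    by_contra hz
    let Z : Set (LefPen.Sec i ({H} : Set (LefPen.Form r k d))) := (g.smoothLocus : Set _)ᶜ ∩ ({y} : Set _)ᶜ
    obtain ⟨w, ⟨hwns, hwy⟩, hwc⟩ := nonempty_inter_closedPoints (Z := Z) ⟨z, hz, hzy⟩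
      (g.smoothLocus.isOpen.isClosed_compl.isLocallyClosed.inter hyc.isOpen_compl.isLocallyClosed)
    have hwxc : IsClosed ({ι' w} : Set X) := by
      simpa [Set.image_singleton] using ι'.isClosedEmbedding.isClosedMap _ hwc
    obtain ⟨b, hwb⟩ : ∃ b, i (ι' w) ∈ LefPen.chart r k b := Groth.L21.PlaneCurve.exists_mem_chart _
    have h := mt (smoothAt_sec_iff (n := n) H hwxc w rfl (hxa := hwb)).2 hwns
    push Not at h
    exact hwy (ι'.isClosedEmbedding.injective (huniq b _ hwb hwxc h.1))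

/-- A single ordinary quadratic point is the unique tangency point. -/
theorem unique_of_oneOrdQuad {H : LefPen.Form r k d} (h : LefPen.OneOrdQuad k n i H) :
    ∃ y : LefPen.Sec i ({H} : Set (LefPen.Form r k d)),
      LefPen.IsOrdQuadSing k (n - 1) (LefPen.secToSpec i ({H} : Set (LefPen.Form r k d))) y ∧
      IsClosed ({LefPen.secι i ({H} : Set (LefPen.Form r k d)) y} : Set X) ∧
      (∀ (a : Fin (r + 1)) (hxa : i (LefPen.secι i ({H} : Set (LefPen.Form r k d)) y) ∈ LefPen.chart r k a),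
        σ i a _ hxa H.1 ∈ maximalIdeal (X.presheaf.stalk (LefPen.secι i ({H} : Set (LefPen.Form r k d)) y)) ^ 2) ∧
      ∀ (b : Fin (r + 1)) (z : X) (hzb : i z ∈ LefPen.chart r k b), IsClosed ({z} : Set X) →
        σ i b z hzb H.1 ∈ maximalIdeal (X.presheaf.stalk z) ^ 2 → z = LefPen.secι i ({H} : Set (LefPen.Form r k d)) y := by
  obtain ⟨y, hset, hy⟩ := h
  set ι' := LefPen.secι i ({H} : Set (LefPen.Form r k d))
  have hxc : IsClosed ({ι' y} : Set X) := by
    simpa [Set.image_singleton] using ι'.isClosedEmbedding.isClosedMap _ hy.1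
  have hns : ¬ LefPen.SmoothAt (LefPen.secToSpec i ({H} : Set (LefPen.Form r k d))) y := fun hs =>
    (hset.le hs) rfl
  have hboth : ∀ (a : Fin (r + 1)) (hxa : i (ι' y) ∈ LefPen.chart r k a),
      σ i a _ hxa H.1 ∈ maximalIdeal (X.presheaf.stalk (ι' y)) ^ 2 ∧ σ i a _ hxa H.1 ≠ 0 := fun a hxa => by
    have h := mt (smoothAt_sec_iff (n := n) H hxc y rfl (hxa := hxa)).2 hns
    push Not at h
    exact h
  refine ⟨y, hy, hxc, fun a hxa => (hboth a hxa).1, fun b z hzb hzc hzsq => ?_⟩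
  obtain ⟨w, hw⟩ := exists_mem_secι i b z hzb H (Ideal.pow_le_self two_ne_zero hzsq)
  have hwns : ¬ LefPen.SmoothAt (LefPen.secToSpec i ({H} : Set (LefPen.Form r k d))) w := fun hs => by
    rcases (smoothAt_sec_iff (n := n) H hzc w hw (hxa := hzb)).1 hs with h | h
    · exact h hzsq
    · obtain ⟨a, hxa⟩ : ∃ a, i (ι' y) ∈ LefPen.chart r k a := Groth.L21.PlaneCurve.exists_mem_chart _
      exact (hboth a hxa).2 (σ_form_eq_zero h a _ hxa)
  have hwy : w = y := by
    by_contra hne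
    exact hwns (hset.ge hne)
  rw [← hw, hwy]

/-- The equations of tangency as families in the form. -/
def tanFam (S : Finset (MvPolynomial (Fin (r + 1)) k)) (m d : ℕ) :
    ↥S ⊕ LinIdx S m → MvPolynomial (Fin (r + 1)) (PFun k (LefPen.Form r k d)) :=
  Sum.elim (fun F => cst F.1) (fun l => fam (linEq S m l))

/-- The equations of tangency. -/
def tanEq (S : Finset (MvPolynomial (Fin (r + 1)) k)) (m d : ℕ) (j : ↥S ⊕ LinIdx S m) (H : LefPen.Form r k d) :
    MvPolynomial (Fin (r + 1)) k :=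
  spec H (tanFam S m d j)

omit [IsAlgClosed k] in
theorem tanEq_inl (H : LefPen.Form r k d) (F : ↥S) : tanEq S m d (Sum.inl F) H = F.1 := spec_cst H F.1

omit [IsAlgClosed k] in
theorem tanEq_inr (H : LefPen.Form r k d) (l : LinIdx S m) : tanEq S m d (Sum.inr l) H = linEq S m l H.1 :=
  spec_fam _ H

theorem exists_degrees (hE : Eqns i S m n) (d : ℕ) :
    ∃ δ : ↥S ⊕ LinIdx S m → ℕ, ∀ j H, (tanEq S m d j H).IsHomogeneous (δ j) := by
  choose e he using fun F : ↥S => (hE.sub F.2).1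
  refine ⟨Sum.elim e (Sum.elim (fun _ => d) fun p => d - 1 + ∑ s, (e (p.1 s) - 1)), ?_⟩
  rintro (F | u | p) H
  · rw [tanEq_inl]; exact he F
  · rw [tanEq_inr]; exact (mem_homogeneousSubmodule d _).1 H.2
  · rw [tanEq_inr]
    exact minor_isHomogeneous (fun s => (p.1 s).1) (fun s => e (p.1 s)) (fun s => he (p.1 s)) p.2
      ((mem_homogeneousSubmodule d _).1 H.2)

theorem tanEq_zero_of_tangent (hE : Eqns i S m n) {b : Fin (r + 1)} {x : X} {hxb : i x ∈ LefPen.chart r k b}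
    {c : Fin (r + 1) → k} (hc : IsCoord i b x hxb c) (hx : IsClosed ({x} : Set X)) {H : LefPen.Form r k d}
    (h : σ i b x hxb H.1 ∈ maximalIdeal (X.presheaf.stalk x) ^ 2) (j : ↥S ⊕ LinIdx S m) :
    eval c (tanEq S m d j H) = 0 := by
  rcases j with F | l
  · rw [tanEq_inl]; exact eval_eq_zero_of_mem hc hE.sub F.2
  · rw [tanEq_inr]
    exact (evalEq_apply S m d c H l).symm.trans (congrFun ((σ_mem_sq_iff_evalEq d hE hc hx H).1 h) l)

omit [IsAlgClosed k] [IsClosedImmersion i] [IrreducibleSpace X] [IsReduced X] [IsLocallyNoetherian X] in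
theorem rad_kills {a : Fin (r + 1)} {c w : Fin (r + 1) → k} {H : LefPen.Form r k d} (hw : Rad S m a c H w)
    (j : ↥S ⊕ LinIdx S m) : ∑ p, grad c (tanEq S m d j H) p * w p = 0 := by
  rcases j with F | l
  · rw [tanEq_inl]; exact hw.2.1 _ F.2
  · rw [tanEq_inr]; exact hw.2.2 l

omit [IsAlgClosed k] [IsClosedImmersion i] [IrreducibleSpace X] [IsReduced X] [IsLocallyNoetherian X] in
theorem rad_of_orth {a : Fin (r + 1)} {c w : Fin (r + 1) → k} {H : LefPen.Form r k d}
    (hw : ∀ γ ∈ Set.range (fun j => grad c (tanEq S m d j H)) ∪ {(Pi.single a 1 : Fin (r + 1) → k)},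
      ∑ p, γ p * w p = 0) : Rad S m a c H w := by
  refine ⟨?_, fun F hF => ?_, fun l => ?_⟩
  · have h := hw _ (Or.inr rfl)
    rwa [Fintype.sum_eq_single a (fun p hp => by rw [Pi.single_eq_of_ne hp, zero_mul]), Pi.single_eq_same, one_mul] at h
  · have h := hw _ (Or.inl ⟨Sum.inl ⟨F, hF⟩, rfl⟩)
    simp only [tanEq_inl] at h
    exact h
  · have h := hw _ (Or.inl ⟨Sum.inr l, rfl⟩)
    simp only [tanEq_inr] at h
    exact h

/-- The base data at a form with a single ordinary quadratic point. -/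
structure Base (i : X ⟶ CohB1.ProjSpace r k) (S : Finset (MvPolynomial (Fin (r + 1)) k)) (m n : ℕ)
    (H₀ : LefPen.Form r k d) where
  a : Fin (r + 1)
  x : X
  hxa : i x ∈ LefPen.chart r k a
  hx : IsClosed ({x} : Set X)
  c : Fin (r + 1) → k
  hc : IsCoord i a x hxa c
  hH : σ i a x hxa H₀.1 ∈ maximalIdeal (X.presheaf.stalk x) ^ 2
  g : Fin m → MvPolynomial (Fin (r + 1)) k
  hg : ∀ s, g s ∈ S
  hli : LinearIndependent k (fun s => grad c (g s))
  l : Fin m → k
  hl : grad c H₀.1 = ∑ s, l s • grad c (g s)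
  hG0 : eval c (H₀.1 - ∑ s, C (l s) * g s) = 0
  hG : grad c (H₀.1 - ∑ s, C (l s) * g s) = 0
  nd : NDAt S m a c H₀ (H₀.1 - ∑ s, C (l s) * g s)
  parity : ∀ w, Rad S m a c H₀ w → w ≠ 0 → (2 : k) = 0 ∧ Odd n
  zeros : ∀ v, (∀ j, eval v (tanEq S m d j H₀) = 0) → ∃ t : k, v = t • c

theorem exists_base (hE : Eqns i S m n) (hn : 1 ≤ n) {H₀ : LefPen.Form r k d} (h₀ : LefPen.OneOrdQuad k n i H₀) :
    Nonempty (Base i S m n H₀) := by
  obtain ⟨y, hy, hx, hsq, huniq⟩ := unique_of_oneOrdQuad (n := n) h₀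
  obtain ⟨a, hxa⟩ : ∃ a, i (LefPen.secι i ({H₀} : Set (LefPen.Form r k d)) y) ∈ LefPen.chart r k a :=
    Groth.L21.PlaneCurve.exists_mem_chart _
  obtain ⟨c, hc'⟩ := exists_coords i a _ hxa hx
  have hc : IsCoord i a _ hxa c := hc'
  obtain ⟨g, hg, hli, -⟩ := exists_frame hE hc hx
  obtain ⟨l, hl, hG0, hG, hord, -, hpar, -⟩ := point_data hE hn hc hx (hsq a hxa) hg hli
  have hnd := (hord y rfl).1 hy
  refine ⟨⟨a, _, hxa, hx, c, hc, hsq a hxa, g, hg, hli, l, hl, hG0, hG, hnd, fun w hw hw0 => hpar hnd w hw hw0,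
    fun v hv => ?_⟩⟩
  by_cases hv0 : v = 0
  · exact ⟨0, by rw [hv0, zero_smul]⟩
  obtain ⟨b, hb⟩ := Function.ne_iff.1 hv0
  obtain ⟨δ, hδ⟩ := exists_degrees hE d
  set w := (v b)⁻¹ • v
  have hw : ∀ j, eval w (tanEq S m d j H₀) = 0 := fun j => by
    rw [eval_smul_of_isHomogeneous (hδ j H₀), hv j, mul_zero]
  obtain ⟨x', hxb', hx', hcw⟩ := exists_point_of_zero (i := i) (v := w) (a := b)
    (show (v b)⁻¹ * v b = 1 from inv_mul_cancel₀ hb) (fun F hF => by
      have hle : Ideal.span (S : Set (MvPolynomial (Fin (r + 1)) k)) ≤ RingHom.ker (eval w) :=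
        Ideal.span_le.2 fun G hG => by
          have := hw (Sum.inl ⟨G, hG⟩)
          rwa [tanEq_inl] at this
      exact hle (hE.gen F hF))
  have hsq' : σ i b x' hxb' H₀.1 ∈ maximalIdeal (X.presheaf.stalk x') ^ 2 := by
    refine (σ_mem_sq_iff_evalEq d hE hcw hx' H₀).2 (funext fun l => ?_)
    rw [evalEq_apply]
    have := hw (Sum.inr l)
    rwa [tanEq_inr] at this
  obtain rfl := huniq b x' hxb' hx' hsq'
  refine ⟨v b * w a, ?_⟩
  rw [mul_smul, ← coord_change hc hcw]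
  simp [w, smul_smul, mul_inv_cancel₀ hb]

variable {H₀ : LefPen.Form r k d} (B : Base i S m n H₀)

theorem rad_line (hE : Eqns i S m n) {w₀ : Fin (r + 1) → k} (h0 : Rad S m B.a B.c H₀ w₀) (hw0 : w₀ ≠ 0)
    {w : Fin (r + 1) → k} (hw : Rad S m B.a B.c H₀ w) : ∃ t : k, w = t • w₀ := by
  have hspan : Submodule.span k (Set.range fun s => grad B.c (B.g s)) =
      Submodule.span k (grad B.c '' (S : Set (MvPolynomial (Fin (r + 1)) k))) :=
    Submodule.eq_of_le_of_finrank_eq (Submodule.span_mono (by rintro _ ⟨s, rfl⟩; exact ⟨B.g s, B.hg s, rfl⟩))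
      (by rw [finrank_span_eq_card B.hli, Fintype.card_fin, finrank_span hE B.hc B.hx])
  obtain ⟨hw0T, hw0B⟩ := (rad_iff hE B.hc B.hx B.hg B.hli hspan B.hl B.hG w₀).1 h0
  set G := H₀.1 - ∑ s, C (B.l s) * B.g s
  have hq0 : hq B.c w₀ G ≠ 0 := fun h => hw0 (B.nd w₀ h0 h)
  obtain ⟨s, hs⟩ := IsAlgClosed.exists_pow_nat_eq (-hq B.c w G / hq B.c w₀ G) (n := 2) two_pos
  refine ⟨-s, ?_⟩
  have hrad : Rad S m B.a B.c H₀ (w + s • w₀) := by
    refine ⟨by simp [hw.1, h0.1], fun F hF => ?_, fun l => ?_⟩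
    · simp [mul_add, Finset.sum_add_distrib, hw.2.1 F hF, mul_left_comm _ s, ← Finset.mul_sum, h0.2.1 F hF]
    · simp [mul_add, Finset.sum_add_distrib, hw.2.2 l, mul_left_comm _ s, ← Finset.mul_sum, h0.2.2 l]
  have hT := (tangent_iff hE B.hc w).2 ⟨hw.1, hw.2.1⟩
  have h := B.nd _ hrad (by
    rw [hq_polar, hq_smul, hs, hessVec_symm, show ∑ j, w j * hessVec B.c (s • w₀) G j =
      s * ∑ j, w j * hessVec B.c w₀ G j by
        have h1 := hessVec_symm B.c (s • w₀) w G
        have h2 := hessVec_symm B.c w₀ w G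
        rw [h1, h2, Finset.mul_sum]
        exact Finset.sum_congr rfl fun j _ => by rw [Pi.smul_apply, smul_eq_mul, mul_assoc],
      show ∑ j, w j * hessVec B.c w₀ G j = 0 from
        (Finset.sum_congr rfl fun j _ => mul_comm _ _).trans (hT _ hw0B),
      mul_zero, add_zero, div_mul_cancel₀ _ hq0, add_neg_cancel])
  rw [neg_smul]
  exact eq_neg_of_add_eq_zero_left h

/-- The hypotheses of the length bound. -/
theorem exists_length (hE : Eqns i S m n) {ℓ : ℕ} (u : Fin ℓ → MvPolynomial (Fin (r + 1)) k)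
    (hu1 : ∀ s, (u s).IsHomogeneous 1) (hu : ∀ s, eval B.c (u s) = 0)
    (hgrad : ∀ v, v ∈ Submodule.span k (Set.range (fun j => grad B.c (tanEq S m d j H₀)) ∪
      {(Pi.single B.a 1 : Fin (r + 1) → k)} ∪ Set.range fun s => grad B.c (u s)))
    (hsq : ∀ s t, u s * u t ∈ affIdeal (fun j => tanEq S m d j H₀) B.a ⊔ ptIdeal B.c ^ 3) :
    ∃ (E : ℕ) (δ : ↥S ⊕ LinIdx S m → ℕ) (f : LefPen.Form r k d → k), 2 ≤ E ∧ LefPen.IsPolyFun k f ∧ f H₀ ≠ 0 ∧
      ∀ H, f H ≠ 0 → ∀ L : Fin (ℓ + 2) → (MvPolynomial (Fin (r + 1)) k →ₗ[k] k),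
        (∀ t, ∀ F ∈ prods δ (tanEq S m d) E H, L t F = 0) →
        ∃ a : Fin (ℓ + 2) → k, a ≠ 0 ∧ ∀ G : MvPolynomial (Fin (r + 1)) k, G.IsHomogeneous E → ∑ t, a t * L t G = 0 := by
  classical
  obtain ⟨δ, hδ⟩ := exists_degrees hE d
  have hP0 : ∀ j, eval B.c (tanEq S m d j H₀) = 0 := tanEq_zero_of_tangent hE B.hc B.hx B.hH
  have hI := mem_affIdeal_of_jets δ (fun j => tanEq S m d j H₀) B.a (fun j => hδ j H₀) B.c (coord_self B.hc) hP0
    B.zeros u hu (fun v _ => hgrad v) hsq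
  obtain ⟨E, U, hE2, hU, hspan⟩ := exists_span δ (fun j => tanEq S m d j H₀) B.a (fun j => hδ j H₀) B.c
    (coord_self B.hc) hP0 B.zeros u hu1 hI
  have hspan' : ∀ μ : Groth.L14.Fano.Mon (r + 1) E, monomial μ.1 (1 : k) ∈
      Submodule.span k (prods δ (tanEq S m d) E H₀) ⊔ Submodule.span k (Set.range U) := fun μ => by
    have hle : Submodule.span k (prods δ (fun j (_ : k) => tanEq S m d j H₀) E 0) ≤
        Submodule.span k (prods δ (tanEq S m d) E H₀) := Submodule.span_mono ?_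
    · exact (sup_le_sup_right hle _) (hspan μ)
    rintro F ⟨j, ν, h1, h2⟩
    exact ⟨j, ν, h1, h2⟩
  obtain ⟨f, hf, hf0, hfH⟩ := isOpen_length δ (tanEq S m d) hδ (fun j μ => isPolyFun_coeff (tanFam S m d j) μ) H₀ U hU
    hspan'
  exact ⟨E, δ, f, hE2, hf, hf0, hfH⟩

/-- Near `H₀` every tangency point avoids the zeros of a given family. -/
theorem exists_near (hE : Eqns i S m n) (p : MvPolynomial (Fin (r + 1)) (PFun k (LefPen.Form r k d)))
    (hp : eval B.c (spec H₀ p) ≠ 0) :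
    ∃ f : LefPen.Form r k d → k, LefPen.IsPolyFun k f ∧ f H₀ ≠ 0 ∧
      ∀ H, f H ≠ 0 → ∀ (b : Fin (r + 1)) (x : X) (hxb : i x ∈ LefPen.chart r k b), IsClosed ({x} : Set X) →
        σ i b x hxb H.1 ∈ maximalIdeal (X.presheaf.stalk x) ^ 2 →
        ∃ (hxa : i x ∈ LefPen.chart r k B.a) (c : Fin (r + 1) → k), IsCoord i B.a x hxa c ∧
          σ i B.a x hxa H.1 ∈ maximalIdeal (X.presheaf.stalk x) ^ 2 ∧ eval c (spec H p) ≠ 0 := by
  classical
  obtain ⟨δ, hδ⟩ := exists_degrees hE d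
  obtain ⟨N, q, hq⟩ := exists_homogenise B.a p
  let δ' : Option (↥S ⊕ LinIdx S m) → ℕ := fun o => o.elim (1 + N) δ
  let P' : Option (↥S ⊕ LinIdx S m) → LefPen.Form r k d → MvPolynomial (Fin (r + 1)) k := fun o H =>
    o.elim (spec H (cst (MvPolynomial.X B.a) * q)) fun j => tanEq S m d j H
  have hnone : ∀ (H : LefPen.Form r k d) (v : Fin (r + 1) → k),
      eval v (P' none H) = v B.a * eval v (spec H q) := fun H v => by
    show eval v (spec H (cst (MvPolynomial.X B.a) * q)) = _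
    rw [map_mul, spec_cst, map_mul, eval_X]
  have hhom : ∀ o H, (P' o H).IsHomogeneous (δ' o) := by
    rintro (_ | j) H
    · show (spec H (cst (MvPolynomial.X B.a) * q)).IsHomogeneous (1 + N)
      rw [map_mul, spec_cst]
      exact (isHomogeneous_X k B.a).mul (hq H).1
    · exact hδ j H
  have hpoly : ∀ o μ, LefPen.IsPolyFun k fun H => coeff μ (P' o H) := by
    rintro (_ | j) μ
    · exact isPolyFun_coeff _ μ
    · exact isPolyFun_coeff _ μ
  have h0 : ∀ v : Fin (r + 1) → k, (∀ o, eval v (P' o H₀) = 0) → v = 0 := by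
    intro v hv
    obtain ⟨t, rfl⟩ := B.zeros v fun j => hv (some j)
    have h := hv none
    rw [hnone, eval_smul_of_isHomogeneous (hq H₀).1, (hq H₀).2 B.c (coord_self B.hc), Pi.smul_apply,
      coord_self B.hc, smul_eq_mul, mul_one, ← mul_assoc, ← pow_succ'] at h
    rw [show t = 0 from eq_zero_of_pow_eq_zero ((mul_eq_zero.1 h).resolve_right hp), zero_smul]
  obtain ⟨f, hf, hf0, hfH⟩ := isOpen_noCommonZero δ' P' hhom hpoly H₀ h0
  refine ⟨f, hf, hf0, fun H hH b x hxb hx hsq => ?_⟩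
  obtain ⟨e, he'⟩ := exists_coords i b x hxb hx
  have he : IsCoord i b x hxb e := he'
  have hne : eval e (P' none H) ≠ 0 := by
    intro h
    refine one_ne_zero ((coord_self he).symm.trans (congrFun (hfH H hH e ?_) b))
    rintro (_ | j)
    · exact h
    · exact tanEq_zero_of_tangent hE he hx hsq j
  rw [hnone, mul_ne_zero_iff] at hne
  have hxa := mem_chart_of_coord he hne.1
  obtain ⟨c, hc'⟩ := exists_coords i B.a x hxa hx
  have hc : IsCoord i B.a x hxa c := hc'
  refine ⟨hxa, c, hc, sq_mem_change ((mem_homogeneousSubmodule d _).1 H.2) b B.a x hxb hxa hsq, fun h => hne.2 ?_⟩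
  rw [coord_change hc he, eval_smul_of_isHomogeneous (hq H).1, (hq H).2 c (coord_self hc), h, mul_zero]

end Groth.L05.Nd
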