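import Groth.Agent.L05.Nd.Sing
import Groth.Agent.L05.Nd.Family

/-! Tangency points: coordinates, non-degeneracy and parity. -/

set_option autoImplicit false
set_option linter.style.haveILetI false
set_option backward.isDefEq.respectTransparency false
set_option backward.isDefEq.respectTransparency.types false
set_option maxHeartbeats 1000000

universe u

open CategoryTheory CategoryTheory.Limits AlgebraicGeometry TopologicalSpace MvPolynomial IsLocalRing

noncomputable section

namespace Groth.L05.Nd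

open Groth.L05.OrdQuad (σ exists_coords isAffineOpen_preimage_chart)
open Groth.L05.DualVar
open VanCyc (quadPart QuadOrd)

variable {k : Type u} [Field k] [IsAlgClosed k] {r : ℕ} {X : Scheme.{u}} {i : X ⟶ CohB1.ProjSpace r k}
  [IsClosedImmersion i]

omit [IsAlgClosed k] in
/-- Coordinates on two charts are proportional. -/
theorem coord_change {a b : Fin (r + 1)} {x : X} {hxa : i x ∈ LefPen.chart r k a} {hxb : i x ∈ LefPen.chart r k b}
    {c e : Fin (r + 1) → k} (hc : IsCoord i a x hxa c) (he : IsCoord i b x hxb e) : e = e a • c := by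
  funext j
  let L : MvPolynomial (Fin (r + 1)) k := MvPolynomial.X j - C (c j) * MvPolynomial.X a
  have h1 : σ i a x hxa L ∈ maximalIdeal (X.presheaf.stalk x) :=
    (σ_mem_iff hc L).2 (by simp [L, coord_self hc])
  have h2 := (σ_mem_iff he L).1 (by
    rw [σ_change i L ((isHomogeneous_X k j).sub (isHomogeneous_C_mul_X _ _)) a b x hxa hxb]
    exact Ideal.mul_mem_right _ _ h1)
  simp only [L, map_sub, map_mul, eval_X, eval_C, sub_eq_zero] at h2
  rw [Pi.smul_apply, smul_eq_mul, h2, mul_comm]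

omit [IsAlgClosed k] [IsClosedImmersion i] in
/-- A point lies on a chart as soon as the coordinate does not vanish. -/
theorem mem_chart_of_coord {a b : Fin (r + 1)} {x : X} {hxb : i x ∈ LefPen.chart r k b} {c : Fin (r + 1) → k}
    (hc : IsCoord i b x hxb c) (ha : c a ≠ 0) : i x ∈ LefPen.chart r k a := by
  let G : LefPen.Form r k 1 := ⟨MvPolynomial.X a, LefPen.X_mem r k a⟩
  have hu : IsUnit (σ i b x hxb (MvPolynomial.X a)) := by
    by_contra h
    exact ha (by simpa using (σ_mem_iff hc (MvPolynomial.X a)).1 ((mem_maximalIdeal _).2 h))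
  have hz' : x ∈ i ⁻¹ᵁ (CohB1.ProjSpace r k).basicOpen (LefPen.dehom G b) := by
    rw [Scheme.preimage_basicOpen, ← Groth.L18.CIProj.deh_form]
    exact (X.mem_basicOpen _ x hxb).2 hu
  exact (Groth.L18.CIProj.basicOpen_dehom le_rfl G b (i x) hxb).1 hz'

omit [IsAlgClosed k] in
/-- A point of an affine chart is determined by its coordinates. -/
theorem eq_of_coord {a : Fin (r + 1)} {x x' : X} {hxa : i x ∈ LefPen.chart r k a} {hxa' : i x' ∈ LefPen.chart r k a}
    {c : Fin (r + 1) → k} (hc : IsCoord i a x hxa c) (hc' : IsCoord i a x' hxa' c) : x = x' := by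
  set W := i ⁻¹ᵁ LefPen.chart r k a
  have hW : IsAffineOpen W := isAffineOpen_preimage_chart i a
  let φ : MvPolynomial (Fin (r + 1)) k →+* Γ(X, W) :=
    (i.app (LefPen.chart r k a)).hom.comp (Groth.L18.CIProj.deh a)
  have hφ : Function.Surjective φ :=
    (Groth.L07.RegImmComp.app_surjective i (LefPen.chart r k a) (Groth.L21.PlaneCurve.isAffineOpen_chart a)
      (IsZariskiLocalAtTarget.restrict (P := @IsClosedImmersion) inferInstance _)).comp (Groth.L18.CIProj.deh_surjective a)
  have key : ∀ (z : X) (hz : i z ∈ LefPen.chart r k a), IsCoord i a z hz c →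
      (hW.primeIdealOf ⟨z, hz⟩).asIdeal.comap φ = RingHom.ker (eval c) := by
    intro z hz hcz
    letI : Algebra Γ(X, W) (X.presheaf.stalk z) := (X.presheaf.germ W z hz).hom.toAlgebra
    haveI := hW.isLocalization_stalk ⟨z, hz⟩
    ext G
    rw [Ideal.mem_comap, RingHom.mem_ker, ← σ_mem_iff hcz G,
      ← IsLocalization.AtPrime.to_map_mem_maximal_iff (X.presheaf.stalk z) (hW.primeIdealOf ⟨z, hz⟩).asIdeal]
    rfl
  have h : hW.primeIdealOf ⟨x, hxa⟩ = hW.primeIdealOf ⟨x', hxa'⟩ := PrimeSpectrum.ext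
    (Ideal.comap_injective_of_surjective φ hφ ((key x hxa hc).trans (key x' hxa' hc').symm))
  have h2 := congrArg hW.fromSpec h
  rwa [hW.fromSpec_primeIdealOf, hW.fromSpec_primeIdealOf] at h2

variable [IrreducibleSpace X] [IsReduced X] [IsLocallyNoetherian X]
  {S : Finset (MvPolynomial (Fin (r + 1)) k)} {m n d : ℕ}

omit [IsLocallyNoetherian X] in
/-- A form which is zero at one point is zero at all points. -/
theorem σ_form_eq_zero {H : LefPen.Form r k d} {a : Fin (r + 1)} {x : X} {hxa : i x ∈ LefPen.chart r k a}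
    (h : σ i a x hxa H.1 = 0) (b : Fin (r + 1)) (y : X) (hyb : i y ∈ LefPen.chart r k b) :
    σ i b y hyb H.1 = 0 :=
  σ_eq_zero_of_van (van_of_σ_eq_zero ((mem_homogeneousSubmodule d _).1 H.2) a x hxa h) b y hyb

variable [SmoothOfRelativeDimension n (i ≫ CohB1.ProjSpace.toSpec r k)]

/-- Non-degeneracy of the second derivative on the radical. -/
def NDAt (S : Finset (MvPolynomial (Fin (r + 1)) k)) (m : ℕ) (a : Fin (r + 1)) (c : Fin (r + 1) → k)
    (H : LefPen.Form r k d) (G : MvPolynomial (Fin (r + 1)) k) : Prop :=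
  ∀ w, Rad S m a c H w → hq c w G = 0 → w = 0

/-- What is needed about one tangency point. -/
theorem point_data (hE : Eqns i S m n) (hn : 1 ≤ n) {a : Fin (r + 1)} {x : X} {hxa : i x ∈ LefPen.chart r k a}
    {c : Fin (r + 1) → k} (hc : IsCoord i a x hxa c) (hx : IsClosed ({x} : Set X)) {H : LefPen.Form r k d}
    (hH : σ i a x hxa H.1 ∈ maximalIdeal (X.presheaf.stalk x) ^ 2)
    {g : Fin m → MvPolynomial (Fin (r + 1)) k} (hg : ∀ s, g s ∈ S) (hli : LinearIndependent k (fun s => grad c (g s))) :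
    ∃ l : Fin m → k, grad c H.1 = ∑ s, l s • grad c (g s) ∧ eval c (H.1 - ∑ s, C (l s) * g s) = 0 ∧
      grad c (H.1 - ∑ s, C (l s) * g s) = 0 ∧
      (∀ y : LefPen.Sec i ({H} : Set (LefPen.Form r k d)), LefPen.secι i ({H} : Set (LefPen.Form r k d)) y = x →
        (LefPen.IsOrdQuadSing k (n - 1) (LefPen.secToSpec i ({H} : Set (LefPen.Form r k d))) y ↔
          NDAt S m a c H (H.1 - ∑ s, C (l s) * g s))) ∧
      (NDAt S m a c H (H.1 - ∑ s, C (l s) * g s) → σ i a x hxa H.1 ≠ 0) ∧
      (NDAt S m a c H (H.1 - ∑ s, C (l s) * g s) → ∀ w, Rad S m a c H w → w ≠ 0 → (2 : k) = 0 ∧ Odd n) ∧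
      ((2 : k) = 0 → Odd n → ∃ w, Rad S m a c H w ∧ w ≠ 0) := by
  classical
  obtain ⟨m', rfl⟩ : ∃ m', n = m' + 1 := ⟨n - 1, by omega⟩
  haveI : Smooth (i ≫ CohB1.ProjSpace.toSpec r k) := SmoothOfRelativeDimension.smooth (m' + 1) _
  haveI : IsRegularLocalRing (X.presheaf.stalk x) :=
    Groth.L08.Cube.isRegularLocalRing_of_smooth (i ≫ CohB1.ProjSpace.toSpec r k) x
  have hspan : Submodule.span k (Set.range fun s => grad c (g s)) =
      Submodule.span k (grad c '' (S : Set (MvPolynomial (Fin (r + 1)) k))) :=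
    Submodule.eq_of_le_of_finrank_eq (Submodule.span_mono (by rintro _ ⟨s, rfl⟩; exact ⟨g s, hg s, rfl⟩))
      (by rw [finrank_span_eq_card hli, Fintype.card_fin, finrank_span hE hc hx])
  obtain ⟨l, hl, hG, hG0, hσ⟩ := exists_flat hE hc hx hH g hg hspan
  obtain ⟨sel, ⟨P⟩⟩ := exists_param_coord (n := m' + 1) hc hx
  have hrad := rad_iff hE hc hx hg hli hspan hl hG
  have hQ : QuadOrd (quadPart (P.ν (σ i a x hxa H.1))) ↔ NDAt S m a c H (H.1 - ∑ s, C (l s) * g s) := by
    rw [← hσ, quadOrd_iff P hc hG]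
    exact ⟨fun h w hw hq0 => h w ((hrad w).1 hw).1 hq0 ((hrad w).1 hw).2,
      fun h w hw hq0 hB => h w ((hrad w).2 ⟨hw, hB⟩) hq0⟩
  refine ⟨l, hl, hG0, hG, fun y hy => ?_, fun hnd h0 => ?_, fun hnd w hw hw0 => ?_, fun h2 hodd => ?_⟩
  · rw [← hQ]
    exact ordQuad_iff H P hx hH y hy
  · have h1 := hQ.2 hnd
    rw [h0, map_zero] at h1
    have hz : ∀ p q, quadPart (0 : MvPowerSeries (Fin (m' + 1)) k) p q = 0 := fun p q => by
      simp [quadPart]
    have h2 := h1 (Pi.single 0 1) (by simp [VanCyc.quadEval, hz]) (funext fun p => by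
      simp [Matrix.mulVec, dotProduct, VanCyc.polarMatrix, hz])
    simpa using congrFun h2 0
  · obtain ⟨hwT, hB⟩ := (hrad w).1 hw
    rw [eq_wOf P hc hwT] at hw0 hB
    refine two_eq_zero_and_odd (hQ.2 hnd) (w := fun t => w (sel t)) (fun h => hw0 ?_) (funext fun t => ?_)
    · funext j
      simp only [wOf, lin, Pi.zero_apply]
      exact Finset.sum_eq_zero fun t _ => by rw [show w (sel t) = 0 from congrFun h t, mul_zero]
    · have h1 := polar_eq P hc hG (fun t => w (sel t)) (Pi.single t 1)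
      rw [Fintype.sum_eq_single t (fun p hp => by rw [Pi.single_eq_of_ne hp, zero_mul]), Pi.single_eq_same, one_mul,
        hσ] at h1
      rw [h1, Pi.zero_apply, ← dot_wOf P hc hB (Pi.single t 1)]
      exact Finset.sum_congr rfl fun j _ => mul_comm _ _
  · obtain ⟨z, hz0, hz⟩ := exists_radical (a := quadPart (P.ν (σ i a x hxa H.1))) h2 hodd
    refine ⟨wOf P z, (hrad _).2 ⟨fun u hu => dot_wOf P hc hu z, mem_jetKer_of_dot P hc fun z' => ?_⟩, fun h => hz0 ?_⟩
    · have h1 := polar_eq P hc hG z z'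
      rw [hσ] at h1
      simp only [hz, Pi.zero_apply, mul_zero, Finset.sum_const_zero] at h1
      rw [h1]
      exact Finset.sum_congr rfl fun j _ => mul_comm _ _
    · funext t
      rw [← wOf_sel P z t, h]
      rfl

end Groth.L05.Nd
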