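import Groth.Agent.L05.OrdQuad.Quad
import Groth.Agent.L28.HensModel.DegAlg
import Mathlib.RingTheory.Nullstellensatz
import Mathlib.RingTheory.MvPolynomial.EulerIdentity
import Mathlib.FieldTheory.IsAlgClosed.Basic
import Groth.Prelude.Def_LefPen

/-! Ordinary quadratic forms in any characteristic. -/

set_option autoImplicit false
set_option linter.style.haveILetI false
set_option backward.isDefEq.respectTransparency false

universe u

open MvPolynomial

noncomputable section

namespace Groth.L05.Nd

open VanCyc (quadPoly quadEval polarMatrix QuadOrd)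
open Groth.L28.HensModel (polarMatrix_symm quadEval_add quadEval_smul_add det_polarMatrix_eq_zero)
open Groth.L16.ProjSpace (dehom ChartVar dehom_X_self dehom_X_ne)

variable {k : Type u} [Field k] {N : ℕ}

theorem quadEval_smul (a : Fin N → Fin N → k) (s : k) (v : Fin N → k) :
    quadEval a (fun i => s * v i) = s ^ 2 * quadEval a v := by
  simp only [quadEval, Finset.mul_sum]
  refine Finset.sum_congr rfl fun i _ => Finset.sum_congr rfl fun j _ => ?_
  split_ifs <;> ring

theorem eval_quadPoly (a : Fin N → Fin N → k) (v : Fin N → k) : eval v (quadPoly a) = quadEval a v := by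
  simp only [quadPoly, quadEval, map_sum]
  refine Finset.sum_congr rfl fun i _ => Finset.sum_congr rfl fun j _ => ?_
  split_ifs <;> simp

theorem eval_pderiv_quadPoly (a : Fin N → Fin N → k) (v : Fin N → k) (i : Fin N) :
    eval v (pderiv i (quadPoly a)) = (polarMatrix a).mulVec v i := by
  classical
  have h := Groth.L28.HessCrit.sum_polar a (Pi.single i 1) v
  simp only [quadPoly, map_sum]
  refine Eq.trans (Finset.sum_congr rfl fun p _ => Finset.sum_congr rfl fun q _ => ?_) (h.trans ?_)
  · split_ifs
    · simp only [pderiv_mul, pderiv_C, pderiv_X, map_add, map_mul, eval_C, eval_X, zero_mul, zero_add, Pi.single_apply]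
      rcases eq_or_ne p i with rfl | hp <;> rcases eq_or_ne q p with rfl | hq <;>
        simp_all [eq_comm] <;> ring
    · simp
  · rw [Finset.sum_eq_single i (fun p _ hp => by simp [Pi.single_eq_of_ne hp]) (by simp)]
    simp [Matrix.mulVec, dotProduct]

theorem dot_polar_self (a : Fin N → Fin N → k) (v : Fin N → k) :
    ∑ i, v i * (polarMatrix a).mulVec v i = 2 * quadEval a v := by
  have h := quadEval_add a v v
  rw [show v + v = fun i => (2 : k) * v i by funext i; simp [two_mul], quadEval_smul] at h
  simp only [Matrix.mulVec, dotProduct, Finset.mul_sum]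
  linear_combination (norm := (simp only [mul_assoc]; ring)) -h

/-- In an ordinary form a vector in the radical is determined by a coordinate of another one. -/
theorem radical_eq_zero [IsAlgClosed k] {a : Fin N → Fin N → k} (ha : QuadOrd a) {w z : Fin N → k}
    (hw : (polarMatrix a).mulVec w = 0) {l : Fin N} (hl : w l ≠ 0) (hz : (polarMatrix a).mulVec z = 0)
    (hzl : z l = 0) : z = 0 := by
  have hwQ : quadEval a w ≠ 0 := fun h => hl (congrFun (ha w h hw) l)
  obtain ⟨s, hs⟩ := IsAlgClosed.exists_pow_nat_eq (-quadEval a z / quadEval a w) (n := 2) two_pos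
  have h0 : quadEval a (s • w + z) = 0 := by
    rw [quadEval_smul_add a s w z hw, hs, div_mul_cancel₀ _ hwQ, neg_add_cancel]
  have h1 := ha _ h0 (by rw [Matrix.mulVec_add, Matrix.mulVec_smul, hw, hz, smul_zero, add_zero])
  have h2 := congrFun h1 l
  rw [Pi.add_apply, Pi.smul_apply, hzl, add_zero, smul_eq_mul, Pi.zero_apply, mul_eq_zero] at h2
  rw [h2.resolve_right hl, zero_smul, zero_add] at h1
  exact h1

/-- An ordinary form with a radical lives in characteristic two and an odd number of variables. -/
theorem two_eq_zero_and_odd [IsAlgClosed k] {a : Fin N → Fin N → k} (ha : QuadOrd a) {w : Fin N → k}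
    (hw0 : w ≠ 0) (hw : (polarMatrix a).mulVec w = 0) : (2 : k) = 0 ∧ Odd N := by
  classical
  have hwQ : quadEval a w ≠ 0 := fun h => hw0 (ha w h hw)
  have h2 : (2 : k) = 0 := by
    have h := dot_polar_self a w
    simp only [hw, Pi.zero_apply, mul_zero, Finset.sum_const_zero] at h
    exact (mul_eq_zero.1 h.symm).resolve_right hwQ
  refine ⟨h2, ?_⟩
  by_contra hodd
  obtain ⟨l, hl⟩ := Function.ne_iff.1 hw0
  obtain ⟨M, rfl⟩ : ∃ M, N = M + 1 := ⟨N - 1, by have := l.2; omega⟩
  have hM : Odd M := by
    rcases Nat.even_or_odd M with h | h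
    · exact absurd h.add_one hodd
    · exact h
  let A : Matrix (Fin M) (Fin M) k := fun p q => polarMatrix a (l.succAbove p) (l.succAbove q)
  have hA : A.det = 0 := by
    refine Groth.L09.RInvHerm.det_alternating hM _ (fun i j => ?_) fun i => by simp [A, polarMatrix, h2]
    simp only [A]
    rw [polarMatrix_symm]
    linear_combination polarMatrix a (l.succAbove i) (l.succAbove j) * h2
  obtain ⟨z', hz'0, hz'⟩ := Matrix.exists_mulVec_eq_zero_iff.2 hA
  let z : Fin (M + 1) → k := l.insertNth 0 z'
  have hzp : ∀ p, (polarMatrix a).mulVec z (l.succAbove p) = 0 := by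
    intro p
    have := congrFun hz' p
    simp only [Matrix.mulVec, dotProduct, Pi.zero_apply] at this ⊢
    rw [Fin.sum_univ_succAbove _ l]
    simpa [z, A] using this
  have hzl : (polarMatrix a).mulVec z l = 0 := by
    have h1 : ∑ i, w i * (polarMatrix a).mulVec z i = 0 := by
      simp only [Matrix.mulVec, dotProduct, Finset.mul_sum]
      rw [Finset.sum_comm]
      refine Finset.sum_eq_zero fun q _ => ?_
      have hq := congrFun hw q
      simp only [Matrix.mulVec, dotProduct, Pi.zero_apply] at hq
      calc ∑ i, w i * (polarMatrix a i q * z q) = (∑ i, polarMatrix a q i * w i) * z q := by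
            rw [Finset.sum_mul]
            refine Finset.sum_congr rfl fun i _ => ?_
            rw [polarMatrix_symm a q i]
            ring
        _ = 0 := by rw [hq, zero_mul]
    rw [Fin.sum_univ_succAbove _ l, Finset.sum_eq_zero (fun p _ => by rw [hzp p, mul_zero]), add_zero] at h1
    exact (mul_eq_zero.1 h1).resolve_left hl
  have hz : (polarMatrix a).mulVec z = 0 := funext fun i => by
    rcases Fin.eq_self_or_eq_succAbove l i with rfl | ⟨p, rfl⟩
    · exact hzl
    · exact hzp p
  have := radical_eq_zero ha hw hl hz (by simp [z])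
  refine hz'0 (funext fun p => ?_)
  have := congrFun this (l.succAbove p)
  simpa [z] using this

theorem exists_radical {a : Fin N → Fin N → k} (h2 : (2 : k) = 0) (hN : Odd N) :
    ∃ w : Fin N → k, w ≠ 0 ∧ (polarMatrix a).mulVec w = 0 :=
  Matrix.exists_mulVec_eq_zero_iff.2 (det_polarMatrix_eq_zero h2 hN a)

variable {m : ℕ}

theorem eval_dehom (i : Fin (m + 1)) (z : Fin (m + 1) → k) (hz : z i = 1) (F : MvPolynomial (Fin (m + 1)) k) :
    eval (fun p : ChartVar m i => z p.1) (dehom m k i F) = eval z F := by
  induction F using MvPolynomial.induction_on with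
  | C c => simp [MvPolynomial.algebraMap_eq]
  | add p q hp hq => rw [map_add, map_add, map_add, hp, hq]
  | mul_X p l hp =>
    rw [map_mul, map_mul, map_mul, hp]
    congr 1
    by_cases h : l = i
    · subst h; rw [dehom_X_self, map_one, eval_X, hz]
    · rw [show dehom m k i (MvPolynomial.X l) = MvPolynomial.X ⟨l, h⟩ from dehom_X_ne m k i ⟨l, h⟩]
      simp

theorem dehom_ne_zero (i : Fin (m + 1)) {F : MvPolynomial (Fin (m + 1)) k} {e : ℕ} (hF : F.IsHomogeneous e)
    (h0 : F ≠ 0) : dehom m k i F ≠ 0 := by
  intro h
  have h1 := Groth.L16.ProjSpace.toAway_dehom_mul m k i ((mem_homogeneousSubmodule e F).2 hF)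
  rw [h, map_zero, HomogeneousLocalization.val_zero, zero_mul] at h1
  refine h0 (IsLocalization.injective (Localization.Away (MvPolynomial.X i : MvPolynomial (Fin (m + 1)) k))
    (powers_le_nonZeroDivisors_of_noZeroDivisors (X_ne_zero i)) ?_)
  rw [map_zero]
  exact h1.symm

/-- A quadratic form defines a smooth quadric iff it is ordinary. -/
theorem nondegQuad_iff [IsAlgClosed k] (a : Fin (m + 1) → Fin (m + 1) → k) (Q₂ : LefPen.Form m k 2)
    (hQ : Q₂.1 = quadPoly a) : LefPen.NondegQuad k Q₂ ↔ QuadOrd a := by
  classical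
  have hzero : m = 0 → ∀ v, quadEval a v = a 0 0 * v 0 ^ 2 := by
    rintro rfl v
    simp [quadEval, sq, mul_assoc]
  constructor
  · rintro ⟨hne, hs⟩ v hv hPv
    by_contra hv0
    rcases hs with hm | hs
    · subst hm
      rw [hzero rfl, mul_eq_zero, pow_eq_zero_iff two_ne_zero] at hv
      rcases hv with h | h
      · refine hne ?_
        rw [hQ]
        simp [quadPoly, h]
      · exact hv0 (funext fun i => by fin_cases i; exact h)
    obtain ⟨i, hi⟩ := Function.ne_iff.1 hv0
    set z : Fin (m + 1) → k := fun j => (v i)⁻¹ * v j with hz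
    have hzi : z i = 1 := inv_mul_cancel₀ hi
    have hz1 : quadEval a z = 0 := by rw [hz, quadEval_smul, hv, mul_zero]
    have hz2 : (polarMatrix a).mulVec z = 0 := by
      rw [show z = (v i)⁻¹ • v from rfl, Matrix.mulVec_smul, hPv, smul_zero]
    haveI := (Groth.L21.PlaneCurve.smooth_hyp_iff Q₂).1 hs i
    obtain ⟨h, c, hc⟩ := Groth.L21.SmoothChart.unit_of_smooth (dehom m k i Q₂.1)
      (dehom_ne_zero i ((mem_homogeneousSubmodule 2 _).1 Q₂.2) hne)
    have h1 := congrArg (eval fun p : ChartVar m i => z p.1) hc
    rw [map_sub, map_one, map_mul, map_sum, eval_dehom i z hzi, hQ, eval_quadPoly, hz1, zero_mul,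
      Finset.sum_eq_zero (fun p _ => by
        rw [map_mul, ← hQ, Groth.L05.OrdQuad.pderiv_dehom, eval_dehom i z hzi, hQ, eval_pderiv_quadPoly, hz2,
          Pi.zero_apply, zero_mul]), sub_zero] at h1
    exact one_ne_zero h1
  · intro ha
    have hne : Q₂.1 ≠ 0 := fun h0 => by
      have h1 := ha (Pi.single 0 1) (by rw [← eval_quadPoly, ← hQ, h0, map_zero]) (funext fun i => by
        rw [← eval_pderiv_quadPoly, ← hQ, h0, map_zero, map_zero]; rfl)
      simpa using congrFun h1 0
    refine ⟨hne, ?_⟩
    rcases Nat.eq_zero_or_pos m with h | h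
    · exact Or.inl h
    refine Or.inr ((Groth.L21.PlaneCurve.smooth_hyp_iff Q₂).2 fun i => ?_)
    set f := dehom m k i Q₂.1 with hf
    let I : Ideal (MvPolynomial (ChartVar m i) k) :=
      Ideal.span (Set.range fun o : Option (ChartVar m i) => o.elim f fun p => pderiv p f)
    have hI : (1 : MvPolynomial (ChartVar m i) k) ∈ I.radical := by
      rw [← vanishingIdeal_zeroLocus_eq_radical (k := k) (K := k) I, mem_vanishingIdeal_iff]
      intro p hp
      exfalso
      have hp' : ∀ o : Option (ChartVar m i), eval p (o.elim f fun q => pderiv q f) = 0 := fun o => by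
        have := mem_zeroLocus_iff.1 hp _ (Ideal.subset_span ⟨o, rfl⟩)
        rwa [aeval_eq_eval] at this
      let z : Fin (m + 1) → k := fun j => if hj : j = i then 1 else p ⟨j, hj⟩
      have hzi : z i = 1 := dif_pos rfl
      have hpz : (fun q : ChartVar m i => z q.1) = p := funext fun q => dif_neg q.2
      have h1 : quadEval a z = 0 := by
        rw [← eval_quadPoly, ← hQ, ← eval_dehom i z hzi, hpz]
        exact hp' none
      have h2 : ∀ j, j ≠ i → (polarMatrix a).mulVec z j = 0 := by
        intro j hj
        rw [← eval_pderiv_quadPoly, ← hQ, ← eval_dehom i z hzi, hpz,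
          ← Groth.L05.OrdQuad.pderiv_dehom i (⟨j, hj⟩ : ChartVar m i)]
        exact hp' (some ⟨j, hj⟩)
      have h3 : (polarMatrix a).mulVec z = 0 := funext fun j => by
        by_cases hj : j = i
        · subst hj
          have h4 := dot_polar_self a z
          rw [h1, mul_zero, Finset.sum_eq_single j (fun l _ hl => by rw [h2 l hl, mul_zero])
            (fun h => absurd (Finset.mem_univ j) h), hzi, one_mul] at h4
          exact h4
        · exact h2 j hj
      exact one_ne_zero (hzi.symm.trans (congrFun (ha z h1 h3) i))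
    obtain ⟨e, he⟩ := hI
    rw [one_pow] at he
    obtain ⟨c, hc⟩ := Ideal.mem_span_range_iff_exists_fun.1 he
    refine Groth.L21.SmoothChart.smooth_of_unit f (fun p => c (some p)) ⟨c none, ?_⟩
    rw [← hc, Fintype.sum_option]
    simp only [Option.elim]
    rw [Finset.sum_congr rfl fun p _ => mul_comm (c (some p)) (pderiv p f)]
    ring

end Groth.L05.Nd
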