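import Groth.Agent.L05.Nd.Crit
import Groth.Agent.L05.OmegaRank.Regular

/-! Singular points of a hypersurface section. -/

set_option autoImplicit false
set_option linter.style.haveILetI false
set_option backward.isDefEq.respectTransparency false
set_option backward.isDefEq.respectTransparency.types false
set_option maxHeartbeats 1000000

universe u

open CategoryTheory CategoryTheory.Limits AlgebraicGeometry TopologicalSpace MvPolynomial IsLocalRing

noncomputable section

namespace Groth.L05.Nd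

open Groth.L05.OrdQuad (σ exists_coords σ_form_ker_secι exists_mem_secι)
open Groth.L05.DualVar
open VanCyc (quadPart QuadOrd)

variable {k : Type u} [Field k] [IsAlgClosed k] {r : ℕ} {X : Scheme.{u}} {i : X ⟶ CohB1.ProjSpace r k}
  [IsClosedImmersion i] {d : ℕ} (H : LefPen.Form r k d)

theorem smoothAt_iff_regular {Y : Scheme.{u}} (g : Y ⟶ Spec (CommRingCat.of k)) [LocallyOfFiniteType g] (y : Y) :
    LefPen.SmoothAt g y ↔ IsRegularLocalRing (Y.presheaf.stalk y) := by
  haveI : LocallyOfFinitePresentation g := Groth.L05.SmoothCrit.lfp_of_noetherian g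
  constructor
  · intro h
    haveI := Groth.L20.SmoothAt.smooth_ι_smoothLocus g
    let u : (g.smoothLocus : Scheme.{u}) := ⟨y, h⟩
    haveI := Groth.L21.Smooth.regular_stalk (g.smoothLocus.ι ≫ g) u
    exact IsRegularLocalRing.of_ringEquiv (asIso (g.smoothLocus.ι.stalkMap u)).commRingCatIsoToRingEquiv.symm
  · exact Groth.L05.OmegaRank.mem_smoothLocus_of_regular_stalk g y

variable {n : ℕ} [SmoothOfRelativeDimension n (i ≫ CohB1.ProjSpace.toSpec r k)] [IsLocallyNoetherian X]

theorem isClosed_of_secι {x : X} (hx : IsClosed ({x} : Set X)) (y : LefPen.Sec i ({H} : Set (LefPen.Form r k d)))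
    (hy : LefPen.secι i ({H} : Set (LefPen.Form r k d)) y = x) : IsClosed ({y} : Set _) := by
  have : ({y} : Set (LefPen.Sec i ({H} : Set (LefPen.Form r k d)))) =
      (LefPen.secι i ({H} : Set (LefPen.Form r k d))) ⁻¹' {x} := by
    ext z
    simp only [Set.mem_singleton_iff, Set.mem_preimage]
    exact ⟨fun h => h ▸ hy, fun h =>
      (LefPen.secι i ({H} : Set (LefPen.Form r k d))).isClosedEmbedding.injective (h.trans hy.symm)⟩
  rw [this]
  exact hx.preimage (LefPen.secι i ({H} : Set (LefPen.Form r k d))).continuous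

variable {a : Fin (r + 1)} {x : X} {hxa : i x ∈ LefPen.chart r k a}

include n in
theorem smoothAt_sec_iff (hx : IsClosed ({x} : Set X)) (y : LefPen.Sec i ({H} : Set (LefPen.Form r k d)))
    (hy : LefPen.secι i ({H} : Set (LefPen.Form r k d)) y = x) :
    LefPen.SmoothAt (LefPen.secToSpec i ({H} : Set (LefPen.Form r k d))) y ↔
      σ i a x hxa H.1 ∉ maximalIdeal (X.presheaf.stalk x) ^ 2 ∨ σ i a x hxa H.1 = 0 := by
  rw [smoothAt_iff_regular]
  haveI : Smooth (i ≫ CohB1.ProjSpace.toSpec r k) := SmoothOfRelativeDimension.smooth n _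
  haveI : IsLocallyNoetherian (LefPen.Sec i ({H} : Set (LefPen.Form r k d))) :=
    LocallyOfFiniteType.isLocallyNoetherian (LefPen.secι i ({H} : Set (LefPen.Form r k d)))
  haveI : IsRegularLocalRing (X.presheaf.stalk x) :=
    Groth.L08.Cube.isRegularLocalRing_of_smooth (i ≫ CohB1.ProjSpace.toSpec r k) x
  haveI := Groth.L01.isDomain_of_regular (X.presheaf.stalk x)
  set A := X.presheaf.stalk x
  set B := (LefPen.Sec i ({H} : Set (LefPen.Form r k d))).presheaf.stalk y
  obtain ⟨p, hp, hker, -⟩ := σ_form_ker_secι i a x hxa H y hy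
  have hmem : σ i a x hxa H.1 ∈ maximalIdeal A :=
    le_maximalIdeal (RingHom.ker_ne_top p) (hker.ge (Ideal.mem_span_singleton_self _))
  by_cases hne : σ i a x hxa H.1 = 0
  · refine iff_of_true ?_ (Or.inr hne)
    rw [hne, Ideal.span_singleton_eq_bot.2 rfl] at hker
    exact IsRegularLocalRing.of_ringEquiv (RingEquiv.ofBijective p ⟨(RingHom.injective_iff_ker_eq_bot p).2 hker, hp⟩)
  have hdim : ringKrullDim A = ((n : ℕ) : WithBot ℕ∞) := by
    rw [← (IsRegularLocalRing.iff_finrank_cotangentSpace _).1 inferInstance,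
      Groth.L14.Quot.finrank_cotangent_of_smoothOfRelativeDimension (i ≫ CohB1.ProjSpace.toSpec r k) n x hx]
  let e := (Ideal.quotEquivOfEq hker.symm).trans (RingHom.quotientKerEquivOfSurjective hp)
  have h1 := ringKrullDim_quotient_span_singleton_succ_eq_ringKrullDim_of_mem_nonZeroDivisors
    (mem_nonZeroDivisors_of_ne_zero hne) hmem
  rw [ringKrullDim_eq_of_ringEquiv e, hdim] at h1
  obtain ⟨m', hm⟩ := Groth.L01.exists_dim_eq_nat (R := B)
  rw [hm] at h1
  have h2 : m' + 1 = n := by exact_mod_cast h1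
  simp only [hne, or_false]
  constructor
  · intro hreg hsq
    have h3 := spanFinrank_le_of_mem_sq p hp hker hsq
    have h4 : ((maximalIdeal B).spanFinrank : WithBot ℕ∞) = ringKrullDim B :=
      IsRegularLocalRing.spanFinrank_maximalIdeal
    rw [hm] at h4
    have h4' : (maximalIdeal ((LefPen.Sec i ({H} : Set (LefPen.Form r k d))).presheaf.stalk y)).spanFinrank = m' := by exact_mod_cast h4
    rw [spanFinrank_maximalIdeal_eq_finrank_cotangentSpace A,
      Groth.L14.Quot.finrank_cotangent_of_smoothOfRelativeDimension (i ≫ CohB1.ProjSpace.toSpec r k) n x hx] at h3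
    omega
  · intro hsq
    haveI : Nontrivial (A ⧸ Ideal.span {σ i a x hxa H.1}) := e.toEquiv.nontrivial
    haveI : IsLocalRing (A ⧸ Ideal.span {σ i a x hxa H.1}) :=
      IsLocalRing.of_surjective' (Ideal.Quotient.mk _) Ideal.Quotient.mk_surjective
    haveI : IsRegularLocalRing (A ⧸ Ideal.span {σ i a x hxa H.1}) := (Groth.L01.regular_quotient_of_notMem_sq hmem hsq).1
    exact IsRegularLocalRing.of_ringEquiv e

omit [SmoothOfRelativeDimension n (i ≫ CohB1.ProjSpace.toSpec r k)] in
/-- An ordinary quadratic singularity, read in power series parameters. -/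
theorem ordQuad_iff [IsRegularLocalRing (X.presheaf.stalk x)] {c : Fin (r + 1) → k} {m' : ℕ}
    {sel : Fin (m' + 1) → Fin (r + 1)}
    (P : Param ((σ i a x hxa).comp C) fun l => tc i a x hxa c (sel l)) (hx : IsClosed ({x} : Set X))
    (hH : σ i a x hxa H.1 ∈ maximalIdeal (X.presheaf.stalk x) ^ 2)
    (y : LefPen.Sec i ({H} : Set (LefPen.Form r k d)))
    (hy : LefPen.secι i ({H} : Set (LefPen.Form r k d)) y = x) :
    LefPen.IsOrdQuadSing k m' (LefPen.secToSpec i ({H} : Set (LefPen.Form r k d))) y ↔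
      QuadOrd (quadPart (P.ν (σ i a x hxa H.1))) := by
  haveI : IsLocallyNoetherian (LefPen.Sec i ({H} : Set (LefPen.Form r k d))) :=
    LocallyOfFiniteType.isLocallyNoetherian (LefPen.secι i ({H} : Set (LefPen.Form r k d)))
  obtain ⟨p, hp, hker, hpc⟩ := σ_form_ker_secι i a x hxa H y hy
  set g := P.ν (σ i a x hxa H.1) with hgdef
  obtain ⟨e₀, he₀⟩ := P.compl _ p hp (σ i a x hxa H.1) hker
  have hg : VanCyc.NoLowTerms g := P.noLow_of_mem_sq hH
  have hquad : ∀ (Q : MvPowerSeries (Fin (m' + 1)) k) (Q₂ : LefPen.Form m' k 2), LefPen.IsQuadPart k Q Q₂ →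
      Q₂.1 = VanCyc.quadPoly (quadPart Q) := by
    intro Q Q₂ hQ₂
    ext e'
    by_cases he : e'.degree = 2
    · rw [hQ₂ e' he]
      obtain ⟨u, v, huv, rfl⟩ := Groth.L28.Morse.quad_repr he
      rw [← MvPolynomial.coeff_coe (VanCyc.quadPoly (quadPart Q)), Groth.L28.Morse.coe_quadPoly,
        Groth.L28.Morse.coeff_Q_X, Finset.sum_eq_single u ?_ (by simp), Finset.sum_eq_single v ?_ (by simp),
        if_pos ⟨huv, rfl⟩]
      · rcases huv.eq_or_lt with rfl | hlt
        · simp [quadPart, ← Finsupp.single_add]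
        · simp [quadPart, hlt.ne, hlt]
      · intro l _ hl
        exact if_neg fun ⟨h1, h2⟩ => hl ((Groth.L28.Morse.pair_eq huv h1).mp h2.symm).2
      · intro l _ hl
        exact Finset.sum_eq_zero fun l' _ => if_neg fun ⟨h1, h2⟩ => hl ((Groth.L28.Morse.pair_eq huv h1).mp h2.symm).1
    · rw [((mem_homogeneousSubmodule 2 _).1 Q₂.2).coeff_eq_zero he,
        (Groth.L28.Morse.quadPoly_isHomogeneous (quadPart Q)).coeff_eq_zero he]
  constructor
  · rintro ⟨-, Q, Q₂, e, hec, hQ, hQ₂, hnd⟩
    have hQlow : VanCyc.NoLowTerms Q := by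
      refine ⟨?_, fun l => hQ _ (by simp)⟩
      rw [← MvPowerSeries.coeff_zero_eq_constantCoeff_apply]
      exact hQ 0 (by simp)
    have hord := (nondegQuad_iff (quadPart Q) Q₂ (hquad Q Q₂ hQ₂)).1 hnd
    have hψ : ∀ t : k, (e.symm.trans e₀) (Ideal.Quotient.mk _ (MvPowerSeries.C t)) =
        Ideal.Quotient.mk _ (MvPowerSeries.C t) := fun t => by
      rw [RingEquiv.trans_apply, ← hec t, e.symm_apply_apply, ← hpc]
      exact he₀ t
    exact quadOrd_of_algEquiv (by omega) hQlow hg hord (AlgEquiv.ofRingEquiv (f := e.symm.trans e₀) hψ)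
  · intro hord
    refine ⟨isClosed_of_secι H hx y hy, g,
      ⟨VanCyc.quadPoly (quadPart g), (mem_homogeneousSubmodule 2 _).2 (Groth.L28.Morse.quadPoly_isHomogeneous _)⟩, e₀,
      fun t => ?_, fun e' he' => ?_, fun e' he' => ?_, ?_⟩
    · rw [← hpc]
      exact he₀ t
    · rcases Groth.L28.PSer.degree_le_one (d := e') (by omega) with rfl | ⟨l, rfl⟩
      · rw [MvPowerSeries.coeff_zero_eq_constantCoeff_apply]; exact hg.1
      · exact hg.2 l
    · obtain ⟨u, v, huv, rfl⟩ := Groth.L28.Morse.quad_repr he'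
      rw [← MvPolynomial.coeff_coe, Groth.L28.Morse.coe_quadPoly, Groth.L28.Morse.coeff_Q_X,
        Finset.sum_eq_single u ?_ (by simp), Finset.sum_eq_single v ?_ (by simp), if_pos ⟨huv, rfl⟩]
      · rcases huv.eq_or_lt with rfl | hlt
        · simp [quadPart, ← Finsupp.single_add]
        · simp [quadPart, hlt.ne, hlt]
      · intro l _ hl
        exact if_neg fun ⟨h1, h2⟩ => hl ((Groth.L28.Morse.pair_eq huv h1).mp h2.symm).2
      · intro l _ hl
        exact Finset.sum_eq_zero fun l' _ => if_neg fun ⟨h1, h2⟩ => hl ((Groth.L28.Morse.pair_eq huv h1).mp h2.symm).1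
    · exact (nondegQuad_iff (quadPart g) _ rfl).2 hord

end Groth.L05.Nd
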