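import Groth.Agent.L05.Nd.Length
import Mathlib.RingTheory.Noetherian.Basic
import Mathlib.RingTheory.Ideal.Operations

/-! Equations cutting out a fat point. -/

set_option autoImplicit false
set_option linter.style.haveILetI false
set_option maxHeartbeats 1000000

universe u

open MvPolynomial

noncomputable section

namespace Groth.L05.Nd

open Groth.L14.Fano (Mon)
open Groth.L05.DualVar (grad grad_apply grad_mul component_mem)

variable {k : Type u} [Field k] {r : ℕ} {J : Type*}

/-- The ideal of a point of affine space. -/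
def ptIdeal (c : Fin (r + 1) → k) : Ideal (MvPolynomial (Fin (r + 1)) k) := RingHom.ker (eval c)

theorem taylor_mem_sq (c : Fin (r + 1) → k) (G : MvPolynomial (Fin (r + 1)) k) :
    G - C (eval c G) - ∑ j, C (grad c G j) * (MvPolynomial.X j - C (c j)) ∈ ptIdeal c ^ 2 := by
  classical
  induction G using MvPolynomial.induction_on with
  | C t => simp [grad_apply]
  | add p q hp hq =>
    convert add_mem hp hq using 1
    simp only [map_add, Pi.add_apply, add_mul, Finset.sum_add_distrib]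
    ring
  | mul_X p l hp =>
    have hxl : MvPolynomial.X l - C (c l) ∈ ptIdeal c := by simp [ptIdeal]
    have hpc : p - C (eval c p) ∈ ptIdeal c := by simp [ptIdeal]
    have h1 := add_mem (Ideal.mul_mem_left _ (C (c l)) hp)
      (show (p - C (eval c p)) * (MvPolynomial.X l - C (c l)) ∈ ptIdeal c ^ 2 by
        rw [pow_two]; exact Ideal.mul_mem_mul hpc hxl)
    convert h1 using 1
    have hg : ∀ j, grad c (p * MvPolynomial.X l) j = c l * grad c p j + if j = l then eval c p else 0 := by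
      intro j
      rw [grad_mul, Pi.add_apply, Pi.smul_apply, Pi.smul_apply, eval_X, smul_eq_mul, smul_eq_mul, grad_apply c (MvPolynomial.X l)]
      by_cases h : j = l
      · rw [h, pderiv_X_self, map_one, mul_one, if_pos rfl]
      · rw [pderiv_X_of_ne (Ne.symm h), map_zero, mul_zero, if_neg h]
    simp only [hg, map_add, map_mul, eval_X, add_mul, Finset.sum_add_distrib, apply_ite C, map_zero, ite_mul, zero_mul,
      Finset.sum_ite_eq', Finset.mem_univ, if_true, mul_assoc, ← Finset.mul_sum]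
    ring

variable (δ : J → ℕ) (P₀ : J → MvPolynomial (Fin (r + 1)) k) (a : Fin (r + 1))

/-- The dehomogenised ideal. -/
def affIdeal : Ideal (MvPolynomial (Fin (r + 1)) k) :=
  Ideal.span (Set.range P₀) ⊔ Ideal.span {MvPolynomial.X a - 1}

theorem exists_pow_mul_mem (hhom : ∀ j, (P₀ j).IsHomogeneous (δ j)) {G : MvPolynomial (Fin (r + 1)) k} {M : ℕ}
    (hG : G.IsHomogeneous M) (h : G ∈ affIdeal P₀ a) :
    ∃ e, MvPolynomial.X a ^ e * G ∈ Ideal.span (Set.range P₀) := by
  let L := Localization.Away (MvPolynomial.X a : MvPolynomial (Fin (r + 1)) k)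
  let φ : MvPolynomial (Fin (r + 1)) k →+* L :=
    (algebraMap (Groth.L16.ProjSpace.AwayX r k a) L).comp
      ((Groth.L16.ProjSpace.toAway r k a).comp (Groth.L16.ProjSpace.dehom r k a).toRingHom)
  have hφ : ∀ {F : MvPolynomial (Fin (r + 1)) k} {e : ℕ}, F.IsHomogeneous e →
      φ F * algebraMap _ L (MvPolynomial.X a ^ e) = algebraMap _ L F := fun hF =>
    Groth.L16.ProjSpace.toAway_dehom_mul r k a ((mem_homogeneousSubmodule _ _).2 hF)
  have hu : ∀ e, IsUnit (algebraMap _ L (MvPolynomial.X a ^ e : MvPolynomial (Fin (r + 1)) k)) := fun e => by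
    rw [map_pow]; exact (IsLocalization.Away.algebraMap_isUnit _).pow e
  have hI : (affIdeal P₀ a).map φ ≤ (Ideal.span (Set.range P₀)).map (algebraMap _ L) := by
    rw [affIdeal, Ideal.map_sup]
    refine sup_le (Ideal.map_le_iff_le_comap.2 (Ideal.span_le.2 ?_)) (Ideal.map_le_iff_le_comap.2 (Ideal.span_le.2 ?_))
    · rintro _ ⟨j, rfl⟩
      rw [SetLike.mem_coe, Ideal.mem_comap, ← Ideal.mul_unit_mem_iff_mem _ (hu (δ j)), hφ (hhom j)]
      exact Ideal.mem_map_of_mem _ (Ideal.subset_span ⟨j, rfl⟩)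
    · rintro _ rfl
      rw [SetLike.mem_coe, Ideal.mem_comap, map_sub, map_one,
        show φ (MvPolynomial.X a) = 1 by simp [φ], sub_self]
      exact zero_mem _
  have h1 : algebraMap _ L G ∈ (Ideal.span (Set.range P₀)).map (algebraMap _ L) := by
    rw [← hφ hG]
    exact Ideal.mul_mem_right _ _ (hI (Ideal.mem_map_of_mem φ h))
  obtain ⟨⟨⟨p, hp⟩, ⟨_, e, rfl⟩⟩, hpe⟩ := (IsLocalization.mem_map_algebraMap_iff (Submonoid.powers (MvPolynomial.X a)) L).1 h1
  simp only at hpe
  rw [← map_mul] at hpe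
  refine ⟨e, ?_⟩
  rw [mul_comm, IsLocalization.injective L (powers_le_nonZeroDivisors_of_noZeroDivisors (X_ne_zero a)) hpe]
  exact hp

variable [Fintype J]

theorem homogeneousComponent_mem_prods (hhom : ∀ j, (P₀ j).IsHomogeneous (δ j)) {y : MvPolynomial (Fin (r + 1)) k}
    (hy : y ∈ Ideal.span (Set.range P₀)) (E : ℕ) :
    homogeneousComponent E y ∈ Submodule.span k (prods δ (fun j (_ : k) => P₀ j) E 0) := by
  classical
  obtain ⟨g, hg⟩ := Ideal.mem_span_range_iff_exists_fun.1 hy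
  rw [← hg, map_sum]
  refine Submodule.sum_mem _ fun j _ => Submodule.span_le.2 ?_
    (component_mem δ (fun j (_ : k) => P₀ j) (fun j _ => hhom j) 0 E j (g j))
  rintro _ ⟨⟨j', ν⟩, rfl⟩
  show (if _ then _ else _) ∈ _
  split_ifs with h
  · exact Submodule.subset_span ⟨j'.1, ν, h, rfl⟩
  · exact zero_mem _

variable [IsAlgClosed k]

omit [Fintype J] in
/-- The affine ideal is determined by its jets of order two. -/
theorem mem_affIdeal_of_jets (hhom : ∀ j, (P₀ j).IsHomogeneous (δ j)) (c₀ : Fin (r + 1) → k) (hca : c₀ a = 1)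
    (hP0 : ∀ j, eval c₀ (P₀ j) = 0) (hzero : ∀ v, (∀ j, eval v (P₀ j) = 0) → ∃ t : k, v = t • c₀)
    {ι : Type*} (u : ι → MvPolynomial (Fin (r + 1)) k) (hu : ∀ s, eval c₀ (u s) = 0)
    (hgrad : (⊤ : Submodule k (Fin (r + 1) → k)) ≤ Submodule.span k
      (Set.range (fun j => grad c₀ (P₀ j)) ∪ {(Pi.single a 1 : Fin (r + 1) → k)} ∪ Set.range fun s => grad c₀ (u s)))
    (hsq : ∀ s t, u s * u t ∈ affIdeal P₀ a ⊔ ptIdeal c₀ ^ 3) (G : MvPolynomial (Fin (r + 1)) k)
    (hG : eval c₀ G = 0) :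
    ∃ y ∈ Submodule.span k (Set.range u), G - y ∈ affIdeal P₀ a := by
  classical
  set m := ptIdeal c₀
  set I := affIdeal P₀ a
  have hIm : I ≤ m := by
    refine sup_le (Ideal.span_le.2 ?_) (Ideal.span_le.2 ?_)
    · rintro _ ⟨j, rfl⟩; exact RingHom.mem_ker.2 (hP0 j)
    · rintro _ rfl; simp [m, ptIdeal, hca]
  have key : ∀ F ∈ m, ∃ y ∈ Submodule.span k (Set.range u), F - y ∈ I ⊔ m ^ 2 := by
    intro F hF
    obtain ⟨p, hp, hpe⟩ : ∃ p : MvPolynomial (Fin (r + 1)) k,
        (∃ y ∈ Submodule.span k (Set.range u), p - y ∈ I ∧ eval c₀ y = 0) ∧ grad c₀ p = grad c₀ F := by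
      have hmem := hgrad (Submodule.mem_top (x := grad c₀ F))
      generalize grad c₀ F = v at hmem
      induction hmem using Submodule.span_induction with
      | mem v hv =>
        rcases hv with (⟨j, rfl⟩ | rfl) | ⟨s, rfl⟩
        · exact ⟨P₀ j, ⟨0, zero_mem _, by rw [sub_zero]; exact Ideal.mem_sup_left (Ideal.subset_span ⟨j, rfl⟩), map_zero _⟩, rfl⟩
        · refine ⟨MvPolynomial.X a - 1, ⟨0, zero_mem _, by rw [sub_zero]; exact Ideal.mem_sup_right (Ideal.subset_span rfl), map_zero _⟩, ?_⟩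
          funext j
          rw [grad_apply, map_sub, pderiv_one, sub_zero]
          by_cases h : j = a
          · rw [h, pderiv_X_self, map_one, Pi.single_eq_same]
          · rw [pderiv_X_of_ne (Ne.symm h), map_zero, Pi.single_eq_of_ne h]
        · exact ⟨u s, ⟨u s, Submodule.subset_span ⟨s, rfl⟩, by rw [sub_self]; exact zero_mem _, hu s⟩, rfl⟩
      | zero => exact ⟨0, ⟨0, zero_mem _, by rw [sub_zero]; exact zero_mem _, map_zero _⟩, map_zero _⟩
      | add v v' _ _ hv hv' =>
        obtain ⟨p, ⟨y, hy, hpy, hy0⟩, rfl⟩ := hv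
        obtain ⟨p', ⟨y', hy', hpy', hy0'⟩, rfl⟩ := hv'
        exact ⟨p + p', ⟨y + y', add_mem hy hy', by rw [add_sub_add_comm]; exact add_mem hpy hpy',
          by rw [map_add, hy0, hy0', add_zero]⟩, map_add _ _ _⟩
      | smul t v _ hv =>
        obtain ⟨p, ⟨y, hy, hpy, hy0⟩, rfl⟩ := hv
        exact ⟨t • p, ⟨t • y, Submodule.smul_mem _ _ hy, by rw [← smul_sub, smul_eq_C_mul]; exact Ideal.mul_mem_left _ _ hpy,
          by rw [smul_eq_C_mul, map_mul, hy0, mul_zero]⟩, map_smul _ _ _⟩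
    obtain ⟨y, hy, hpy, hy0⟩ := hp
    refine ⟨y, hy, ?_⟩
    rw [show F - y = (p - y) + (F - p) by ring]
    refine add_mem (Ideal.mem_sup_left hpy) (Ideal.mem_sup_right ?_)
    have hp0 : eval c₀ p = 0 := by
      have := hIm hpy
      simp only [m, ptIdeal, RingHom.mem_ker, map_sub, hy0, sub_zero] at this
      exact this
    have h := taylor_mem_sq c₀ (F - p)
    rw [map_sub, map_sub (grad c₀), hpe, sub_self, show eval c₀ F = 0 from hF, hp0, sub_zero, map_zero] at h
    simpa using h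
  have h23 : m ^ 2 ≤ I ⊔ m ^ 3 := by
    have hk : ∀ y ∈ Submodule.span k (Set.range u), y ∈ m := fun y hy => by
      induction hy using Submodule.span_induction with
      | mem y hy => obtain ⟨s, rfl⟩ := hy; exact RingHom.mem_ker.2 (hu s)
      | zero => exact zero_mem _
      | add y y' _ _ h h' => exact add_mem h h'
      | smul t y _ h => rw [smul_eq_C_mul]; exact Ideal.mul_mem_left _ _ h
    have hkk : ∀ y ∈ Submodule.span k (Set.range u), ∀ y' ∈ Submodule.span k (Set.range u), y * y' ∈ I ⊔ m ^ 3 := by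
      intro y hy y' hy'
      induction hy using Submodule.span_induction with
      | mem y hy =>
        obtain ⟨s, rfl⟩ := hy
        induction hy' using Submodule.span_induction with
        | mem y' hy' => obtain ⟨t, rfl⟩ := hy'; exact hsq s t
        | zero => rw [mul_zero]; exact zero_mem _
        | add _ _ _ _ h h' => rw [mul_add]; exact add_mem h h'
        | smul t _ _ h => rw [mul_smul_comm, smul_eq_C_mul]; exact Ideal.mul_mem_left _ _ h
      | zero => rw [zero_mul]; exact zero_mem _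
      | add _ _ _ _ h h' => rw [add_mul]; exact add_mem h h'
      | smul t _ _ h => rw [smul_mul_assoc, smul_eq_C_mul]; exact Ideal.mul_mem_left _ _ h
    have hmz : ∀ F ∈ m, ∀ z ∈ I ⊔ m ^ 2, F * z ∈ I ⊔ m ^ 3 := by
      intro F hF z hz
      obtain ⟨p, hp, q, hq, rfl⟩ := Submodule.mem_sup.1 hz
      rw [mul_add]
      refine add_mem (Ideal.mem_sup_left (Ideal.mul_mem_left _ _ hp)) (Ideal.mem_sup_right ?_)
      rw [pow_succ']
      exact Ideal.mul_mem_mul hF hq
    rw [pow_two, Ideal.mul_le]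
    intro F hF F' hF'
    obtain ⟨y, hy, hFy⟩ := key F hF
    obtain ⟨y', hy', hFy'⟩ := key F' hF'
    rw [show F * F' = y * y' + (F' * (F - y) + y * (F' - y')) by ring]
    exact add_mem (hkk y hy y' hy') (add_mem (hmz F' hF' _ hFy) (hmz y (hk y hy) _ hFy'))
  have hrad : m ≤ I.radical := by
    rw [← vanishingIdeal_zeroLocus_eq_radical (k := k) (K := k) I]
    intro F hF
    rw [mem_vanishingIdeal_iff]
    intro v hv
    have hv' : ∀ F ∈ I, eval v F = 0 := fun F hF => by
      have := mem_zeroLocus_iff.1 hv F hF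
      rwa [aeval_eq_eval] at this
    obtain ⟨t, rfl⟩ := hzero v fun j => hv' _ (Ideal.mem_sup_left (Ideal.subset_span ⟨j, rfl⟩))
    have ht := hv' _ (Ideal.mem_sup_right (Ideal.subset_span rfl))
    rw [map_sub, map_one, eval_X, Pi.smul_apply, hca, smul_eq_mul, mul_one, sub_eq_zero] at ht
    rw [ht, one_smul, aeval_eq_eval]
    exact hF
  obtain ⟨N, hN⟩ := Ideal.exists_pow_le_of_le_radical_of_fg hrad (IsNoetherian.noetherian m)
  have hj : ∀ j, m ^ 2 ≤ I ⊔ m ^ (j + 2) := by
    intro j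
    induction j with
    | zero => exact le_sup_right
    | succ j ih =>
      refine ih.trans (sup_le le_sup_left ?_)
      rw [show j + 2 = 2 + j by omega, pow_add, show j + 1 + 2 = 3 + j by omega, pow_add]
      refine (Ideal.mul_mono_left h23).trans ?_
      rw [Ideal.sup_mul]
      exact sup_le_sup_right Ideal.mul_le_left _
  obtain ⟨y, hy, hGy⟩ := key G (RingHom.mem_ker.2 hG)
  refine ⟨y, hy, (sup_le (c := I) le_rfl ?_) hGy⟩
  exact (hj N).trans (sup_le le_rfl ((Ideal.pow_le_pow_right (by omega)).trans hN))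

/-- All forms of a large degree are spanned by the equations and a few forms. -/
theorem exists_span (hhom : ∀ j, (P₀ j).IsHomogeneous (δ j)) (c₀ : Fin (r + 1) → k) (hca : c₀ a = 1)
    (hP0 : ∀ j, eval c₀ (P₀ j) = 0) (hzero : ∀ v, (∀ j, eval v (P₀ j) = 0) → ∃ t : k, v = t • c₀)
    {ℓ : ℕ} (u : Fin ℓ → MvPolynomial (Fin (r + 1)) k) (hu1 : ∀ s, (u s).IsHomogeneous 1)
    (hI : ∀ G : MvPolynomial (Fin (r + 1)) k, eval c₀ G = 0 →
      ∃ y ∈ Submodule.span k (Set.range u), G - y ∈ affIdeal P₀ a) :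
    ∃ (E : ℕ) (U : Fin (ℓ + 1) → MvPolynomial (Fin (r + 1)) k), 2 ≤ E ∧ (∀ s, (U s).IsHomogeneous E) ∧
      ∀ μ : Mon (r + 1) E, monomial μ.1 (1 : k) ∈
        Submodule.span k (prods δ (fun j (_ : k) => P₀ j) E 0) ⊔ Submodule.span k (Set.range U) := by
  classical
  set I := Ideal.span (Set.range P₀) with hIdef
  set Xa : MvPolynomial (Fin (r + 1)) k := MvPolynomial.X a
  let L : Ideal (MvPolynomial (Fin (r + 1)) k) :=
    Ideal.span (Set.range fun j => MvPolynomial.X j - C (c₀ j) * Xa)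
  have hL : L ≤ I.radical := by
    rw [Ideal.span_le]
    rintro _ ⟨j, rfl⟩
    rw [SetLike.mem_coe, ← vanishingIdeal_zeroLocus_eq_radical (k := k) (K := k) I, mem_vanishingIdeal_iff]
    intro v hv
    obtain ⟨t, rfl⟩ := hzero v fun j => by
      have := mem_zeroLocus_iff.1 hv _ (Ideal.subset_span ⟨j, rfl⟩)
      rwa [aeval_eq_eval] at this
    simp [Xa, hca, mul_comm]
  obtain ⟨N, hN⟩ := Ideal.exists_pow_le_of_le_radical_of_fg hL (IsNoetherian.noetherian L)
  let col : ℕ →o Submodule (MvPolynomial (Fin (r + 1)) k) (MvPolynomial (Fin (r + 1)) k) :=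
    { toFun := fun e => Submodule.comap (LinearMap.mulLeft (MvPolynomial (Fin (r + 1)) k) (Xa ^ e)) I
      monotone' := fun e e' hee F hF => by
        show Xa ^ e' * F ∈ I
        rw [← Nat.sub_add_cancel hee, pow_add, mul_assoc]
        exact Ideal.mul_mem_left _ _ hF }
  obtain ⟨e₀, he₀⟩ := monotone_stabilizes_iff_noetherian.2 inferInstance col
  let M := N + 2
  let U : Fin (ℓ + 1) → MvPolynomial (Fin (r + 1)) k :=
    Fin.cons (Xa ^ (e₀ + M)) fun s => Xa ^ (e₀ + M - 1) * u s
  refine ⟨e₀ + M, U, by omega, fun s => ?_, fun μ => ?_⟩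
  · refine Fin.cases ?_ (fun s => ?_) s
    · simp only [U, Fin.cons_zero]
      simpa using (isHomogeneous_X k a).pow (e₀ + M)
    · simp only [U, Fin.cons_succ]
      have h := ((isHomogeneous_X k a).pow (e₀ + M - 1)).mul (hu1 s)
      rwa [show 1 * (e₀ + M - 1) + 1 = e₀ + M by omega] at h
  set G := monomial μ.1 (1 : k)
  have hGh : G.IsHomogeneous (e₀ + M) := isHomogeneous_monomial 1 μ.2
  obtain ⟨q, hq, y, hy, hqy⟩ : ∃ q ∈ Ideal.span {Xa ^ e₀}, ∃ y ∈ I, q + y = G := by
    refine Submodule.mem_sup.1 ?_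
    refine (sup_le_sup_left hN _) ?_
    have h2 : (Ideal.span {Xa} ⊔ L) ^ (e₀ + M) ≤ Ideal.span {Xa ^ e₀} ⊔ L ^ N := by
      refine (Ideal.pow_le_pow_right (show e₀ + N ≤ e₀ + M by omega)).trans ?_
      rw [← Ideal.span_singleton_pow]
      exact Ideal.sup_pow_add_le_pow_sup_pow
    refine h2 ?_
    have hX : ∀ j, MvPolynomial.X j ∈ Ideal.span {Xa} ⊔ L := fun j => by
      rw [show (MvPolynomial.X j : MvPolynomial (Fin (r + 1)) k) = C (c₀ j) * Xa + (MvPolynomial.X j - C (c₀ j) * Xa) by ring]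
      exact add_mem (Ideal.mem_sup_left (Ideal.mul_mem_left _ _ (Ideal.subset_span rfl)))
        (Ideal.mem_sup_right (Ideal.subset_span ⟨j, rfl⟩))
    show G ∈ _
    rw [show G = ∏ j, MvPolynomial.X j ^ μ.1 j by
      simp only [G, monomial_eq, map_one, one_mul]
      exact Finsupp.prod_fintype _ _ fun _ => pow_zero _]
    have hdeg : ∑ j, μ.1 j = e₀ + M := (Finsupp.degree_eq_sum μ.1).symm.trans μ.2
    have h3 := Ideal.prod_mem_prod (s := Finset.univ) (I := fun j => (Ideal.span {Xa} ⊔ L) ^ μ.1 j)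
      (x := fun j => MvPolynomial.X j ^ μ.1 j) fun j _ => Ideal.pow_mem_pow (hX j) _
    rw [Finset.prod_pow_eq_pow_sum, hdeg] at h3
    exact h3
  obtain ⟨q', rfl⟩ := Ideal.mem_span_singleton.1 hq
  set qM := homogeneousComponent M q'
  have hqMh : qM.IsHomogeneous M := homogeneousComponent_isHomogeneous M q'
  have hG : G = Xa ^ e₀ * qM + homogeneousComponent (e₀ + M) y := by
    have h := congrArg (homogeneousComponent (e₀ + M)) hqy
    rw [homogeneousComponent_of_mem hGh, if_pos rfl, map_add] at h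
    rw [← h]
    congr 1
    conv_lhs => rw [← sum_homogeneousComponent q', Finset.mul_sum, map_sum]
    have hterm : ∀ l, homogeneousComponent (e₀ + M) (Xa ^ e₀ * homogeneousComponent l q') =
        if e₀ + M = e₀ + l then Xa ^ e₀ * homogeneousComponent l q' else 0 := fun l => by
      have := ((isHomogeneous_X k a).pow e₀).mul (homogeneousComponent_isHomogeneous l q')
      rw [one_mul] at this
      rw [homogeneousComponent_of_mem this]
    simp only [hterm, add_right_inj, Finset.sum_ite_eq, Finset.mem_range]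
    split_ifs with hM'
    · rfl
    · rw [show qM = 0 from homogeneousComponent_eq_zero M q' (by omega), mul_zero]
  obtain ⟨z, hz, hqz⟩ := hI (qM - C (eval c₀ qM) * Xa ^ M) (by simp [Xa, hca])
  obtain ⟨β, rfl⟩ := (Submodule.mem_span_range_iff_exists_fun k).1 hz
  set G' := qM - C (eval c₀ qM) * Xa ^ M - ∑ s, C (β s) * (Xa ^ (M - 1) * u s) with hG'
  have hG'h : G'.IsHomogeneous M := by
    refine (hqMh.sub ?_).sub (IsHomogeneous.sum _ _ _ fun s _ => ?_)
    · exact (by simpa using ((isHomogeneous_X k a).pow M).C_mul (eval c₀ qM))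
    · have h := ((isHomogeneous_X k a).pow (M - 1)).mul (hu1 s)
      rw [show 1 * (M - 1) + 1 = M by omega] at h
      exact h.C_mul _
  have hG'I : G' ∈ affIdeal P₀ a := by
    have hX1 : ∀ e, Xa ^ e - 1 ∈ affIdeal P₀ a := fun e =>
      Ideal.mem_sup_right (Ideal.mem_span_singleton.2 (sub_one_dvd_pow_sub_one _ _))
    rw [show G' = (qM - C (eval c₀ qM) * Xa ^ M - ∑ s, β s • u s) - (Xa ^ (M - 1) - 1) * ∑ s, β s • u s by
      simp only [G', smul_eq_C_mul, Finset.mul_sum, sub_mul, one_mul, Finset.sum_sub_distrib]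
      rw [Finset.sum_congr rfl fun s _ => mul_left_comm (C (β s)) (Xa ^ (M - 1)) (u s)]
      ring]
    exact sub_mem hqz (Ideal.mul_mem_right _ _ (hX1 _))
  obtain ⟨e, he⟩ := exists_pow_mul_mem δ P₀ a hhom hG'h hG'I
  have he' : Xa ^ e₀ * G' ∈ I := by
    have h := col.monotone (le_max_left e e₀) (show G' ∈ col e from he)
    exact (he₀ (max e e₀) (le_max_right e e₀)).ge h
  have hmem : ∀ F ∈ I, homogeneousComponent (e₀ + M) F ∈
      Submodule.span k (prods δ (fun j (_ : k) => P₀ j) (e₀ + M) 0) :=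
    fun F hF => homogeneousComponent_mem_prods δ P₀ hhom hF _
  have h1 : Xa ^ e₀ * G' ∈ Submodule.span k (prods δ (fun j (_ : k) => P₀ j) (e₀ + M) 0) := by
    have h := hmem _ he'
    have hh : (Xa ^ e₀ * G').IsHomogeneous (e₀ + M) := by simpa using ((isHomogeneous_X k a).pow e₀).mul hG'h
    rwa [homogeneousComponent_of_mem hh, if_pos rfl] at h
  have h2 : Xa ^ e₀ * (C (eval c₀ qM) * Xa ^ M + ∑ s, C (β s) * (Xa ^ (M - 1) * u s)) ∈
      Submodule.span k (Set.range U) := by
    rw [mul_add, Finset.mul_sum]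
    refine add_mem ?_ (Submodule.sum_mem _ fun s _ => ?_)
    · rw [mul_left_comm, ← pow_add, ← smul_eq_C_mul]
      exact Submodule.smul_mem _ _ (Submodule.subset_span ⟨0, rfl⟩)
    · rw [mul_left_comm, ← mul_assoc (Xa ^ e₀), ← pow_add, ← smul_eq_C_mul, show e₀ + (M - 1) = e₀ + M - 1 by omega]
      exact Submodule.smul_mem _ _ (Submodule.subset_span ⟨s.succ, rfl⟩)
  show G ∈ _
  rw [show G = (Xa ^ e₀ * G' + homogeneousComponent (e₀ + M) y) +
    Xa ^ e₀ * (C (eval c₀ qM) * Xa ^ M + ∑ s, C (β s) * (Xa ^ (M - 1) * u s)) by rw [hG, hG']; ring]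
  exact add_mem (Submodule.mem_sup_left (add_mem h1 (hmem y hy))) (Submodule.mem_sup_right h2)

end Groth.L05.Nd
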